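import Mathlib.Combinatorics.Configuration
import Mathlib.Data.Set.Card
import Mathlib.GroupTheory.GroupAction.Quotient
import Mathlib.Tactic.Linarith
import Mathlib.Tactic.Ring

/-!
# Collineation groups of finite projective planes: fixed configurations

Fixed point and fixed line numbers agree, the fixed configuration of a collineation, centre and axis,
and involutions (Baer or perspectivity).
-/

set_option autoImplicit false

namespace CfsgLib.OW

open Configuration MulAction

/-- The two actions respect incidence. -/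
class Compat (Γ P L : Type*) [Membership P L] [SMul Γ P] [SMul Γ L] : Prop where
  mem_smul : ∀ (g : Γ) (p : P) (l : L), g • p ∈ g • l ↔ p ∈ l

variable {Γ P L : Type*}

instance dualMulAction [Monoid Γ] [MulAction Γ P] : MulAction Γ (Configuration.Dual P) :=
  ‹MulAction Γ P›

instance dualCompat [Membership P L] [Monoid Γ] [MulAction Γ P] [MulAction Γ L] [Compat Γ P L] :
    Compat Γ (Configuration.Dual L) (Configuration.Dual P) :=
  ⟨fun g l p => @Compat.mem_smul Γ P L _ _ _ _ g p l⟩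

variable [Membership P L]

/-- Four points, no three of which are collinear. -/
def HasQuad (L : Type*) [Membership P L] (S : Set P) : Prop :=
  ∃ A ∈ S, ∃ B ∈ S, ∃ C ∈ S, ∃ D ∈ S,
    A ≠ B ∧ A ≠ C ∧ A ≠ D ∧ B ≠ C ∧ B ≠ D ∧ C ≠ D ∧
      (∀ l : L, ¬(A ∈ l ∧ B ∈ l ∧ C ∈ l)) ∧ (∀ l : L, ¬(A ∈ l ∧ B ∈ l ∧ D ∈ l)) ∧
      (∀ l : L, ¬(A ∈ l ∧ C ∈ l ∧ D ∈ l)) ∧ (∀ l : L, ¬(B ∈ l ∧ C ∈ l ∧ D ∈ l))

theorem HasQuad.mono {S S' : Set P} (h : HasQuad L S) (hs : S ⊆ S') : HasQuad L S' := by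
  obtain ⟨A, hA, B, hB, C, hC, D, hD, h⟩ := h
  exact ⟨A, hs hA, B, hs hB, C, hs hC, D, hs hD, h⟩

/-- All points of the line are fixed. -/
def IsAxis [SMul Γ P] (g : Γ) (a : L) : Prop := ∀ p : P, p ∈ a → g • p = p

/-- All lines through the point are fixed. -/
def IsCentre (L : Type*) [Membership P L] [SMul Γ L] (g : Γ) (Z : P) : Prop :=
  ∀ l : L, Z ∈ l → g • l = l

section Incidence

variable [ProjectivePlane P L]

theorem line_eq {A B : P} (h : A ≠ B) {l m : L} (h1 : A ∈ l) (h2 : B ∈ l) (h3 : A ∈ m) (h4 : B ∈ m) :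
    l = m :=
  (Nondegenerate.eq_or_eq h1 h2 h3 h4).resolve_left h

theorem point_eq {l m : L} (h : l ≠ m) {A B : P} (h1 : A ∈ l) (h2 : A ∈ m) (h3 : B ∈ l) (h4 : B ∈ m) :
    A = B :=
  (Nondegenerate.eq_or_eq h1 h3 h2 h4).resolve_right h

theorem exists_line_through (A B : P) (h : A ≠ B) : ∃ l : L, A ∈ l ∧ B ∈ l :=
  ⟨HasLines.mkLine h, HasLines.mkLine_ax h⟩

theorem exists_meet (l m : L) (h : l ≠ m) : ∃ A : P, A ∈ l ∧ A ∈ m :=
  ⟨HasPoints.mkPoint h, HasPoints.mkPoint_ax h⟩

theorem hasQuad_of_two {S : Set P} {a : L} {A B C D : P} (hA : A ∈ S) (hB : B ∈ S) (hC : C ∈ S)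
    (hD : D ∈ S) (hAa : A ∈ a) (hBa : B ∈ a) (hAB : A ≠ B) (hCa : C ∉ a) (hDa : D ∉ a) (hCD : C ≠ D)
    {c : L} (hCc : C ∈ c) (hDc : D ∈ c) (hAc : A ∉ c) (hBc : B ∉ c) : HasQuad L S :=
  ⟨A, hA, B, hB, C, hC, D, hD, hAB, fun h => hCa (h ▸ hAa), fun h => hDa (h ▸ hAa),
    fun h => hCa (h ▸ hBa), fun h => hDa (h ▸ hBa), hCD,
    fun _ ⟨h1, h2, h3⟩ => hCa (line_eq hAB h1 h2 hAa hBa ▸ h3),
    fun _ ⟨h1, h2, h3⟩ => hDa (line_eq hAB h1 h2 hAa hBa ▸ h3),
    fun _ ⟨h1, h2, h3⟩ => hAc (line_eq hCD h2 h3 hCc hDc ▸ h1),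
    fun _ ⟨h1, h2, h3⟩ => hBc (line_eq hCD h2 h3 hCc hDc ▸ h1)⟩

/-- Without a quadrangle, all but one point of a set with a collinear triple lie on its line. -/
theorem subsingleton_off_line {S : Set P} (hS : ¬ HasQuad L S) {a : L} {A B E : P} (hA : A ∈ S)
    (hB : B ∈ S) (hE : E ∈ S) (hAa : A ∈ a) (hBa : B ∈ a) (hEa : E ∈ a) (hAB : A ≠ B) (hAE : A ≠ E)
    (hBE : B ≠ E) {C D : P} (hC : C ∈ S) (hD : D ∈ S) (hCa : C ∉ a) (hDa : D ∉ a) : C = D := by
  by_contra hCD
  obtain ⟨c, hCc, hDc⟩ := exists_line_through (L := L) C D hCD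
  have hca : c ≠ a := fun h => hCa (h ▸ hCc)
  by_cases hAc : A ∈ c
  · exact hS (hasQuad_of_two hB hE hC hD hBa hEa hBE hCa hDa hCD hCc hDc
      (fun h => hAB (point_eq hca hAc hAa h hBa)) (fun h => hAE (point_eq hca hAc hAa h hEa)))
  by_cases hBc : B ∈ c
  · exact hS (hasQuad_of_two hA hE hC hD hAa hEa hAE hCa hDa hCD hCc hDc hAc
      (fun h => hBE (point_eq hca hBc hBa h hEa)))
  exact hS (hasQuad_of_two hA hB hC hD hAa hBa hAB hCa hDa hCD hCc hDc hAc hBc)

variable [Finite P] [Finite L]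

theorem ncard_line (l : L) : {p : P | p ∈ l}.ncard = ProjectivePlane.order P L + 1 := by
  rw [← ProjectivePlane.pointCount_eq P l, pointCount, ← Nat.card_coe_set_eq]
  rfl

theorem ncard_pencil (p : P) : {l : L | p ∈ l}.ncard = ProjectivePlane.order P L + 1 := by
  rw [← ProjectivePlane.lineCount_eq L p, lineCount, ← Nat.card_coe_set_eq]
  rfl

theorem card_points_eq :
    Nat.card P = ProjectivePlane.order P L ^ 2 + ProjectivePlane.order P L + 1 := by
  haveI := Fintype.ofFinite P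
  rw [Nat.card_eq_fintype_card]
  exact ProjectivePlane.card_points P L

theorem card_lines_eq :
    Nat.card L = ProjectivePlane.order P L ^ 2 + ProjectivePlane.order P L + 1 := by
  haveI := Fintype.ofFinite L
  rw [Nat.card_eq_fintype_card]
  exact ProjectivePlane.card_lines P L

theorem exists_ne_on_line (l : L) (A : P) : ∃ B, B ∈ l ∧ B ≠ A := by
  have h : 1 < {p : P | p ∈ l}.ncard := by
    rw [ncard_line l]
    have := ProjectivePlane.one_lt_order P L
    omega
  obtain ⟨B, hB, hne⟩ := Set.exists_ne_of_one_lt_ncard h A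
  exact ⟨B, hB, hne⟩

theorem exists_line_avoid (A : P) : ∃ l : L, A ∉ l := Nondegenerate.exists_line A

theorem exists_ne_in_pencil (A : P) (l : L) : ∃ m : L, A ∈ m ∧ m ≠ l := by
  have h : 1 < {m : L | A ∈ m}.ncard := by
    rw [ncard_pencil A]
    have := ProjectivePlane.one_lt_order P L
    omega
  obtain ⟨m, hm, hne⟩ := Set.exists_ne_of_one_lt_ncard h l
  exact ⟨m, hm, hne⟩

theorem exists_third_line (A : P) (l m : L) : ∃ k : L, A ∈ k ∧ k ≠ l ∧ k ≠ m := by
  by_contra hall
  push_neg at hall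
  have hsub : {k : L | A ∈ k} ⊆ {l, m} := fun k hk => by
    by_cases hkl : k = l
    · exact Or.inl hkl
    · exact Or.inr (hall k hk hkl)
  have h1 := Set.ncard_le_ncard hsub
  rw [ncard_pencil A] at h1
  have h2 : ({l, m} : Set L).ncard ≤ 2 := by
    refine (Set.ncard_insert_le _ _).trans ?_
    rw [Set.ncard_singleton]
  have := ProjectivePlane.one_lt_order P L
  omega

end Incidence

section Action

variable [Group Γ] [MulAction Γ P] [MulAction Γ L] [Compat Γ P L]

theorem mem_smul (g : Γ) (p : P) (l : L) : g • p ∈ g • l ↔ p ∈ l := Compat.mem_smul g p l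

theorem mem_smul' (g : Γ) (p : P) (l : L) : p ∈ g • l ↔ g⁻¹ • p ∈ l := by
  conv_lhs => rw [← smul_inv_smul g p]
  exact mem_smul g _ l

theorem mem_of_fix {g : Γ} {l : L} (hl : g • l = l) (p : P) : g • p ∈ l ↔ p ∈ l := by
  conv_lhs => rw [← hl]
  exact mem_smul g p l

variable [ProjectivePlane P L]

theorem smul_line_eq {g : Γ} {A B : P} (h : A ≠ B) {l : L} (hA : A ∈ l) (hB : B ∈ l)
    (hgA : g • A = A) (hgB : g • B = B) : g • l = l := by
  refine line_eq h ?_ ?_ hA hB
  · rw [← hgA]; exact (mem_smul g A l).2 hA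
  · rw [← hgB]; exact (mem_smul g B l).2 hB

theorem smul_point_eq {g : Γ} {l m : L} (h : l ≠ m) {A : P} (hl : A ∈ l) (hm : A ∈ m)
    (hgl : g • l = l) (hgm : g • m = m) : g • A = A :=
  point_eq h ((mem_of_fix hgl A).2 hl) ((mem_of_fix hgm A).2 hm) hl hm

/-- A moved line of an involution carries exactly one fixed point: its meet with its image. -/
theorem exists_fixed_on_line {g : Γ} (hg : g * g = 1) {l : L} (hl : g • l ≠ l) :
    ∃ A : P, A ∈ l ∧ g • A = A := by
  obtain ⟨A, h1, h2⟩ := exists_meet (P := P) (g • l) l hl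
  refine ⟨A, h2, point_eq hl ((mem_smul g A l).2 h2) ?_ h1 h2⟩
  have : g • g • l = l := by rw [← mul_smul, hg, one_smul]
  rw [← this]
  exact (mem_smul g A (g • l)).2 h1

variable [Finite P] [Finite L]

/-- A collineation fixes as many points as lines. -/
theorem ncard_fixed_eq (g : Γ) : (fixedBy P g).ncard = (fixedBy L g).ncard := by
  classical
  haveI := Fintype.ofFinite P
  haveI := Fintype.ofFinite L
  set n := ProjectivePlane.order P L with hn
  have hpencil : ∀ p : P, (Finset.univ.filter fun l : L => p ∈ l).card = n + 1 := fun p => by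
    rw [hn, ← ncard_pencil (L := L) p, Set.ncard_eq_toFinset_card']
    congr 1; ext; simp
  have hline : ∀ l : L, (Finset.univ.filter fun p : P => p ∈ l).card = n + 1 := fun l => by
    rw [hn, ← ncard_line (P := P) l, Set.ncard_eq_toFinset_card']
    congr 1; ext; simp
  have e1 : ∀ p : P, ∑ l : L, (if p ∈ l ∧ g⁻¹ • p ∈ l then (1 : ℤ) else 0) =
      1 + if g • p = p then (n : ℤ) else 0 := by
    intro p
    rw [Finset.sum_boole]
    split_ifs with hp
    · have : g⁻¹ • p = p := inv_smul_eq_iff.2 hp.symm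
      simp [this, hpencil]
      ring
    · have hne : p ≠ g⁻¹ • p := fun e => hp (eq_inv_smul_iff.1 e)
      obtain ⟨l, hl, hl'⟩ := exists_line_through (L := L) p _ hne
      rw [Finset.card_eq_one.2 ⟨l, ?_⟩]
      · simp
      ext m
      simp only [Finset.mem_filter, Finset.mem_univ, true_and, Finset.mem_singleton]
      exact ⟨fun h => line_eq hne h.1 h.2 hl hl', fun h => h ▸ ⟨hl, hl'⟩⟩
  have e2 : ∀ l : L, ∑ p : P, (if p ∈ l ∧ g⁻¹ • p ∈ l then (1 : ℤ) else 0) =
      1 + if g • l = l then (n : ℤ) else 0 := by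
    intro l
    rw [Finset.sum_boole]
    simp only [← mem_smul' g]
    split_ifs with hl
    · simp [hl, hline]
      ring
    · obtain ⟨A, hA, hA'⟩ := exists_meet (P := P) l (g • l) (Ne.symm hl)
      rw [Finset.card_eq_one.2 ⟨A, ?_⟩]
      · simp
      ext q
      simp only [Finset.mem_filter, Finset.mem_univ, true_and, Finset.mem_singleton]
      exact ⟨fun h => point_eq (Ne.symm hl) h.1 h.2 hA hA', fun h => h ▸ ⟨hA, hA'⟩⟩
  have := Finset.sum_comm (s := (Finset.univ : Finset P)) (t := (Finset.univ : Finset L))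
    (f := fun p l => if p ∈ l ∧ g⁻¹ • p ∈ l then (1 : ℤ) else 0)
  simp only [e1, e2, Finset.sum_add_distrib, Finset.sum_const, Finset.card_univ,
    ← Finset.sum_filter, nsmul_eq_mul,
    ProjectivePlane.card_points_eq_card_lines P L, add_right_inj] at this
  have hn0 : (n : ℤ) ≠ 0 := by
    have := ProjectivePlane.one_lt_order P L
    omega
  have h'' : (Finset.univ.filter fun p : P => g • p = p).card =
      (Finset.univ.filter fun l : L => g • l = l).card := by
    exact_mod_cast mul_right_cancel₀ hn0 this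
  rw [Set.ncard_eq_toFinset_card', Set.ncard_eq_toFinset_card']
  convert h'' using 2 <;> ext <;> simp

variable [FaithfulSMul Γ P]

variable (P) in
include P in
theorem eq_one_of_lines {g : Γ} (h : ∀ l : L, g • l = l) : g = 1 := by
  refine eq_of_smul_eq_smul (α := P) fun p => ?_
  rw [one_smul]
  obtain ⟨l₀, hl₀⟩ := exists_line_avoid (L := L) p
  obtain ⟨l, hl, -⟩ := exists_ne_in_pencil p l₀
  obtain ⟨m, hm, hne⟩ := exists_ne_in_pencil p l
  exact smul_point_eq hne.symm hl hm (h l) (h m)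

theorem axis_fixed {g : Γ} {a : L} (h : IsAxis (P := P) g a) : g • a = a := by
  obtain ⟨A, hA, -⟩ := exists_ne_on_line a (HasPoints.mkPoint (P := P)
    (Classical.choose_spec (exists_ne_in_pencil (L := L)
      (Classical.choose (Nondegenerate.exists_point (P := P) a)) a)).2)
  obtain ⟨B, hB, hBA⟩ := exists_ne_on_line a A
  exact smul_line_eq hBA.symm hA hB (h A hA) (h B hB)

/-- A collineation fixing a line pointwise and a point off it fixes all lines through that point. -/
theorem centre_of_fixed {g : Γ} {a : L} (h : IsAxis (P := P) g a) {C : P} (hC : g • C = C)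
    (hCa : C ∉ a) : IsCentre L g C := by
  intro l hl
  obtain ⟨A, hAl, hAa⟩ := exists_meet (P := P) l a (fun e => hCa (e ▸ hl))
  exact smul_line_eq (fun e => hCa (by rw [e]; exact hAa)) hl hAl hC (h A hAa)

theorem axis_unique {g : Γ} (h1 : g ≠ 1) {a b : L} (ha : IsAxis (P := P) g a)
    (hb : IsAxis (P := P) g b) : a = b := by
  by_contra hab
  refine h1 (eq_of_smul_eq_smul (α := P) fun p => ?_)
  rw [one_smul]
  by_cases hpa : p ∈ a
  · exact ha p hpa
  by_cases hpb : p ∈ b
  · exact hb p hpb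
  obtain ⟨Z, hZa, hZb⟩ := exists_meet (P := P) a b hab
  have hpZ : p ≠ Z := fun e => hpa (e ▸ hZa)
  obtain ⟨c, hpc, hZc⟩ := exists_line_through (L := L) p Z hpZ
  have hfix : ∀ l : L, p ∈ l → l ≠ c → g • l = l := by
    intro l hl hlc
    obtain ⟨A, hAl, hAa⟩ := exists_meet (P := P) l a (fun e => hpa (e ▸ hl))
    obtain ⟨B, hBl, hBb⟩ := exists_meet (P := P) l b (fun e => hpb (e ▸ hl))
    refine smul_line_eq (fun e => hlc ?_) hAl hBl (ha A hAa) (hb B hBb)
    subst e
    obtain rfl : A = Z := point_eq hab hAa hBb hZa hZb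
    exact line_eq hpZ hl hAl hpc hZc
  obtain ⟨l, hl, hlc⟩ := exists_ne_in_pencil p c
  obtain ⟨m, hm, hmc, hml⟩ := exists_third_line p c l
  exact smul_point_eq hml hm hl (hfix m hm hmc) (hfix l hl hlc)

/-- A collineation fixing a line pointwise has a centre. -/
theorem exists_centre {g : Γ} {a : L} (h : IsAxis (P := P) g a) : ∃ Z : P, IsCentre L g Z := by
  by_cases hoff : ∃ C : P, g • C = C ∧ C ∉ a
  · obtain ⟨C, hC, hCa⟩ := hoff
    exact ⟨C, centre_of_fixed h hC hCa⟩
  push_neg at hoff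
  have hline : ∀ p : P, p ∉ a → ∀ l : L, p ∈ l → g • p ∈ l → g • l = l := by
    intro p hpa l hpl hgpl
    have hne : g • p ≠ p := fun e => hpa (hoff p e)
    obtain ⟨A, hAl, hAa⟩ := exists_meet (P := P) l a (fun e => hpa (e ▸ hpl))
    refine line_eq (A := g • p) (B := A) (fun e => hpa ?_) ((mem_smul g p l).2 hpl) ?_ hgpl hAl
    · have : g • p = g • A := e.trans (h A hAa).symm
      rw [MulAction.injective g this]; exact hAa
    · rw [← h A hAa]; exact (mem_smul g A l).2 hAl
  obtain ⟨p, hpa⟩ := Nondegenerate.exists_point (P := P) a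
  obtain ⟨l, hpl, hgpl⟩ := exists_line_through (L := L) p (g • p) (fun e => hpa (hoff p e.symm))
  have hgl := hline p hpa l hpl hgpl
  obtain ⟨Z, hZl, hZa⟩ := exists_meet (P := P) l a (fun e => hpa (e ▸ hpl))
  refine ⟨Z, fun m hZm => ?_⟩
  by_cases hma : m = a
  · rw [hma]; exact axis_fixed h
  obtain ⟨q, hqm, hqZ⟩ := exists_ne_on_line m Z
  have hqa : q ∉ a := fun hh => hqZ (point_eq hma hqm hh hZm hZa)
  obtain ⟨l', hql', hgql'⟩ := exists_line_through (L := L) q (g • q) (fun e => hqa (hoff q e.symm))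
  have hgl' := hline q hqa l' hql' hgql'
  have hZl' : Z ∈ l' := by
    by_cases hll : l = l'
    · exact hll ▸ hZl
    obtain ⟨X, hXl, hXl'⟩ := exists_meet (P := P) l l' hll
    have hXa := hoff X (smul_point_eq hll hXl hXl' hgl hgl')
    obtain rfl : X = Z := point_eq (fun e : l = a => hpa (e ▸ hpl)) hXl hXa hZl hZa
    exact hXl'
  rw [line_eq hqZ hqm hZm hql' hZl']
  exact hgl'

end Action

end CfsgLib.OW
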