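import Cfsg.Agent.OstromWagner.Invol
import Cfsg.Agent.ItoDesign.Design
import Mathlib.GroupTheory.PGroup
import Mathlib.GroupTheory.Sylow

/-!
# The collineation group, fixed subplanes of normalised subgroups, the design of a plane
-/

set_option autoImplicit false

namespace CfsgLib.OW

open Configuration MulAction

/-- The collineations of an incidence structure. -/
def Col (P L : Type*) [Membership P L] : Subgroup (Equiv.Perm P × Equiv.Perm L) where
  carrier := {g | ∀ p l, g.1 p ∈ g.2 l ↔ p ∈ l}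
  mul_mem' := fun {g h} hg hh p l => (hg (h.1 p) (h.2 l)).trans (hh p l)
  one_mem' := fun _ _ => Iff.rfl
  inv_mem' := fun {g} hg p l => by
    have := hg (g.1⁻¹ p) (g.2⁻¹ l)
    simp only [Equiv.Perm.inv_def, Equiv.apply_symm_apply] at this
    exact this.symm

variable {P L : Type*} [Membership P L]

instance colActionPts : MulAction (Col P L) P where
  smul g p := (g : Equiv.Perm P × Equiv.Perm L).1 p
  one_smul _ := rfl
  mul_smul _ _ _ := rfl

instance colActionLines : MulAction (Col P L) L where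
  smul g l := (g : Equiv.Perm P × Equiv.Perm L).2 l
  one_smul _ := rfl
  mul_smul _ _ _ := rfl

instance colCompat : Compat (Col P L) P L := ⟨fun g p l => g.2 p l⟩

instance colFinite [Finite P] [Finite L] : Finite (Col P L) := by
  classical
  haveI := Fintype.ofFinite P
  haveI := Fintype.ofFinite L
  infer_instance

theorem col_faithful [ProjectivePlane P L] : FaithfulSMul (Col P L) P := by
  refine ⟨fun {g h} hgh => ?_⟩
  obtain ⟨⟨σ, τ⟩, hg⟩ := g
  obtain ⟨⟨σ', τ'⟩, hh⟩ := h
  obtain rfl : σ = σ' := Equiv.ext hgh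
  obtain rfl : τ = τ' := by
    refine Equiv.ext fun l => ?_
    by_contra hne
    have hset : ∀ x : P, σ x ∈ τ l ↔ σ x ∈ τ' l := fun x => (hg x l).trans (hh x l).symm
    obtain ⟨A, hA1, hA2⟩ := exists_meet (P := P) (τ l) (τ' l) hne
    obtain ⟨B, hB⟩ : ∃ B : P, B ∈ τ l ∧ B ≠ A := by
      by_contra hno
      push_neg at hno
      -- every line meets `τ l` at `A` only
      have hmeet : ∀ m : L, A ∈ m := fun m => by
        by_cases e : m = τ l
        · exact e ▸ hA1
        · obtain ⟨X, hX, hX'⟩ := exists_meet (P := P) m (τ l) e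
          exact hno X hX' ▸ hX
      obtain ⟨m, hm⟩ := Nondegenerate.exists_line (L := L) A
      exact hm (hmeet m)
    refine hne (line_eq hB.2 hB.1 hA1 ?_ hA2)
    have := (hset (σ.symm B))
    rw [Equiv.apply_symm_apply] at this
    exact this.1 hB.1
  rfl

variable {Γ : Type*} [Group Γ] [MulAction Γ P] [MulAction Γ L]

/-- The action as a homomorphism to the collineation group. -/
def toCol (Γ P L : Type*) [Group Γ] [Membership P L] [MulAction Γ P] [MulAction Γ L]
    [Compat Γ P L] : Γ →* Col P L where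
  toFun g := ⟨(toPerm g, toPerm g), fun p l => mem_smul g p l⟩
  map_one' := Subtype.ext (Prod.ext (Equiv.ext fun p => one_smul Γ p)
    (Equiv.ext fun l => one_smul Γ l))
  map_mul' g h := Subtype.ext (Prod.ext (Equiv.ext fun p => mul_smul g h p)
    (Equiv.ext fun l => mul_smul g h l))

section Fix

variable {X : Type*} [MulAction Γ X] (R : Subgroup Γ)

theorem smul_mem_fixedPoints {g : Γ} (hg : g ∈ Subgroup.normalizer (R : Set Γ)) {x : X}
    (hx : x ∈ fixedPoints R X) : g • x ∈ fixedPoints R X := by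
  rintro ⟨r, hr⟩
  have h2 : (g⁻¹ * r * g) • x = x := hx ⟨_, (Subgroup.mem_normalizer_iff''.1 hg r).1 hr⟩
  change r • g • x = g • x
  rw [← mul_smul, show r * g = g * (g⁻¹ * r * g) by group, mul_smul, h2]

instance normAction : MulAction (Subgroup.normalizer (R : Set Γ)) (fixedPoints R X) where
  smul g x := ⟨(g : Γ) • (x : X), smul_mem_fixedPoints R g.2 x.2⟩
  one_smul x := Subtype.ext (one_smul Γ (x : X))
  mul_smul g h x := Subtype.ext (mul_smul (g : Γ) h (x : X))

end Fix

instance normCompat [Compat Γ P L] (R : Subgroup Γ) :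
    Compat (Subgroup.normalizer (R : Set Γ)) (fixedPoints R P) (fixedPoints R L) :=
  ⟨fun g p l => mem_smul (g : Γ) (p : P) (l : L)⟩

/-- The normaliser maps to the collineations of the fixed configuration. -/
abbrev fixHom (Γ P L : Type*) [Group Γ] [Membership P L] [MulAction Γ P] [MulAction Γ L]
    [Compat Γ P L] (R : Subgroup Γ) :
    Subgroup.normalizer (R : Set Γ) →* Col (fixedPoints R P) (fixedPoints R L) :=
  toCol (Subgroup.normalizer (R : Set Γ)) (fixedPoints R P) (fixedPoints R L)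

variable [ProjectivePlane P L]

/-- A quadrangle exists. -/
theorem hasQuad_univ [Finite P] [Finite L] : HasQuad L (Set.univ : Set P) := by
  obtain ⟨C, -⟩ := ProjectivePlane.exists_config (P := P) (L := L)
  obtain ⟨a, hCa⟩ := exists_line_avoid (L := L) C
  obtain ⟨A, hA, -⟩ := exists_ne_on_line a C
  obtain ⟨B, hB, hBA⟩ := exists_ne_on_line a A
  obtain ⟨cA, hCA, hAA⟩ := exists_line_through (L := L) C A (fun e => hCa (e ▸ hA))
  obtain ⟨cB, hCB, hBB⟩ := exists_line_through (L := L) C B (fun e => hCa (e ▸ hB))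
  obtain ⟨c, hCc, hcA, hcB⟩ := exists_third_line C cA cB
  have hca : c ≠ a := fun e => hCa (e ▸ hCc)
  obtain ⟨M, hMc, hMa⟩ := exists_meet (P := P) c a hca
  obtain ⟨D, hDc, hDC, hDM⟩ : ∃ D : P, D ∈ c ∧ D ≠ C ∧ D ≠ M := by
    by_contra hne
    push_neg at hne
    have hsub : {x : P | x ∈ c} ⊆ {C, M} := fun x hx => by
      by_cases hxA : x = C
      · exact Or.inl hxA
      · exact Or.inr (hne x hx hxA)
    have := Set.ncard_le_ncard hsub
    rw [ncard_line c] at this
    have h2 : ({C, M} : Set P).ncard ≤ 2 := by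
      refine (Set.ncard_insert_le _ _).trans ?_
      rw [Set.ncard_singleton]
    have := ProjectivePlane.one_lt_order P L
    omega
  have hAC : A ≠ C := fun e => hCa (e ▸ hA)
  have hBC : B ≠ C := fun e => hCa (e ▸ hB)
  exact hasQuad_of_two (Set.mem_univ A) (Set.mem_univ B) (Set.mem_univ C) (Set.mem_univ D) hA hB
    hBA.symm hCa (fun h => hDM (point_eq hca hDc h hMc hMa)) hDC.symm hCc hDc
    (fun h => hcA (line_eq hAC h hCc hAA hCA)) (fun h => hcB (line_eq hBC h hCc hBB hCB))

theorem hasQuad_bot [Finite P] [Finite L] :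
    HasQuad L (fixedPoints (⊥ : Subgroup Γ) P) := by
  refine (hasQuad_univ (P := P) (L := L)).mono fun x _ u => ?_
  rw [Subgroup.smul_def, Subgroup.mem_bot.1 u.2, one_smul]

/-- A larger group with a quadrangle in the subplane has one in the plane. -/
theorem hasQuad_lift [Compat Γ P L] (R : Subgroup Γ) {S : Set (fixedPoints R P)}
    (h : HasQuad (fixedPoints R L) S) : HasQuad L (Subtype.val '' S : Set P) := by
  obtain ⟨A, hA, B, hB, C, hC, D, hD, hAB, hAC, hAD, hBC, hBD, hCD, h1, h2, h3, h4⟩ := h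
  have hfix : ∀ (X Y : fixedPoints R P), X ≠ Y → ∀ l : L, (X : P) ∈ l → (Y : P) ∈ l →
      l ∈ fixedPoints R L := fun X Y hXY l hX hY u =>
    smul_line_eq (g := (u : Γ)) (fun e => hXY (Subtype.ext e)) hX hY (X.2 u) (Y.2 u)
  exact ⟨A, ⟨A, hA, rfl⟩, B, ⟨B, hB, rfl⟩, C, ⟨C, hC, rfl⟩, D, ⟨D, hD, rfl⟩,
    fun e => hAB (Subtype.ext e), fun e => hAC (Subtype.ext e), fun e => hAD (Subtype.ext e),
    fun e => hBC (Subtype.ext e), fun e => hBD (Subtype.ext e), fun e => hCD (Subtype.ext e),
    fun l h => h1 ⟨l, hfix A B hAB l h.1 h.2.1⟩ h, fun l h => h2 ⟨l, hfix A B hAB l h.1 h.2.1⟩ h,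
    fun l h => h3 ⟨l, hfix A C hAC l h.1 h.2.1⟩ h, fun l h => h4 ⟨l, hfix B C hBC l h.1 h.2.1⟩ h⟩

variable [Compat Γ P L] [Finite Γ] [Finite P] [Finite L]

/-- A group two-transitive on the points gives a symmetric design. -/
theorem exists_planeDesign
    (h2 : ∀ x y x' y' : P, x ≠ y → x' ≠ y' → ∃ g : Γ, g • x = x' ∧ g • y = y') :
    ∃ D : CfsgLib.ItoDesign.Design Γ P L, ∀ l, D.pts l = {p | p ∈ l} := by
  classical
  haveI := Fintype.ofFinite Γ
  have hfix : ∀ g : Γ, (fixedBy L g).ncard = (fixedBy P g).ncard := fun g =>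
    (ncard_fixed_eq g).symm
  obtain ⟨a, b, hab⟩ : ∃ a b : P, a ≠ b := by
    obtain ⟨a, b, -, -, l₂, -, h12, -, -, h22, -⟩ :=
      ProjectivePlane.exists_config (P := P) (L := L)
    exact ⟨a, b, fun e => h12 (e ▸ h22)⟩
  obtain ⟨l₀, hal₀, hbl₀⟩ := exists_line_through (L := L) a b hab
  obtain ⟨c, hc⟩ := Nondegenerate.exists_point (P := P) l₀
  obtain ⟨l₁, hal₁, hne⟩ := exists_ne_in_pencil (L := L) a l₀
  have hPP : Nat.card (orbitRel.Quotient Γ (P × P)) = 2 := by
    refine ItoDesign.card_orbits_eq_two (fun p => p.1 = p.2) ?_ ⟨(a, a), rfl⟩ ⟨(a, b), hab⟩ ?_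
    · intro g p
      exact smul_left_cancel_iff g
    · rintro ⟨x, y⟩ ⟨x', y'⟩ hiff
      by_cases hxy : x = y
      · obtain rfl := hxy
        obtain rfl : x' = y' := hiff.1 rfl
        obtain ⟨z, hz⟩ : ∃ z : P, z ≠ x := by
          by_cases e : a = x
          · exact ⟨b, fun e' => hab (e.trans e'.symm)⟩
          · exact ⟨a, e⟩
        obtain ⟨z', hz'⟩ : ∃ z' : P, z' ≠ x' := by
          by_cases e : a = x'
          · exact ⟨b, fun e' => hab (e.trans e'.symm)⟩
          · exact ⟨a, e⟩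
        obtain ⟨g, hg, -⟩ := h2 x z x' z' hz.symm hz'.symm
        exact ⟨g, by rw [Prod.smul_mk, hg]⟩
      · obtain ⟨g, hg, hg'⟩ := h2 x y x' y' hxy (fun e => hxy (hiff.2 e))
        exact ⟨g, by rw [Prod.smul_mk, hg, hg']⟩
  have hGpos : Nat.card Γ ≠ 0 := Nat.card_pos.ne'
  have hPL : Nat.card (orbitRel.Quotient Γ (P × L)) = 2 := by
    refine mul_right_cancel₀ hGpos ?_
    rw [← ItoDesign.burnside_prod, ← hPP, ← ItoDesign.burnside_prod]
    simp only [hfix]
  have hLL : Nat.card (orbitRel.Quotient Γ (L × L)) = 2 := by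
    refine mul_right_cancel₀ hGpos ?_
    rw [← ItoDesign.burnside_prod, ← hPP, ← ItoDesign.burnside_prod]
    simp only [hfix]
  have hn := ProjectivePlane.one_lt_order P L
  refine ⟨{
    pts := fun l => {p | p ∈ l}
    mem_smul := fun g l p => mem_smul g p l
    k := ProjectivePlane.order P L + 1
    l := 1
    two_le_k := by omega
    one_le_l := le_rfl
    l_add_two_le := by omega
    k_add_two_le := ?_
    card_eq := (card_lines_eq (P := P)).trans (card_points_eq (L := L)).symm
    param := ?_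
    card_pts := fun l => ncard_line l
    inter := fun l m hlm => ?_
    through := fun p => ncard_pencil p
    through_two := fun x y hxy => ?_
    fixed_eq := hfix
    two_pts := fun x y x' y' => h2 x y x' y'
    two_blk := fun C D C' D' hCD hCD' => ?_
    flag := fun x C x' C' hiff => ?_ }, fun l => rfl⟩
  · rw [card_points_eq (L := L)]
    nlinarith
  · rw [card_points_eq (L := L), Nat.add_sub_cancel, Nat.add_sub_cancel, one_mul]
    ring
  · obtain ⟨A, hA, hA'⟩ := exists_meet (P := P) l m hlm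
    refine Set.ncard_eq_one.2 ⟨A, Set.ext fun p => ⟨fun h => point_eq hlm h.1 h.2 hA hA', ?_⟩⟩
    rintro rfl
    exact ⟨hA, hA'⟩
  · obtain ⟨l, hl, hl'⟩ := exists_line_through (L := L) x y hxy
    refine Set.ncard_eq_one.2 ⟨l, Set.ext fun m => ⟨fun h => line_eq hxy h.1 h.2 hl hl', ?_⟩⟩
    rintro rfl
    exact ⟨hl, hl'⟩
  · obtain ⟨g, hg⟩ := ItoDesign.exists_smul_of_card_orbits (fun p : L × L => p.1 = p.2)
      (fun g p => smul_left_cancel_iff g) ⟨(l₀, l₀), rfl⟩ ⟨(l₁, l₀), hne⟩ hLL (C, D) (C', D')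
      (iff_of_false hCD hCD')
    rw [Prod.smul_mk, Prod.mk.injEq] at hg
    exact ⟨g, hg⟩
  · obtain ⟨g, hg⟩ := ItoDesign.exists_smul_of_card_orbits (fun p : P × L => p.1 ∈ p.2)
      (fun g p => mem_smul g p.1 p.2) ⟨(a, l₀), hal₀⟩ ⟨(c, l₀), hc⟩ hPL (x, C) (x', C') hiff
    rw [Prod.smul_mk, Prod.mk.injEq] at hg
    exact ⟨g, hg⟩

end CfsgLib.OW
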