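import Cfsg.Agent.OstromWagner.Setup

/-!
# Groups with involutory elations for all pairs of points and lines
-/

set_option autoImplicit false

namespace CfsgLib.OW

open Configuration MulAction

variable {Γ P L : Type*} [Membership P L] [ProjectivePlane P L] [Finite P] [Finite L] [Group Γ]
  [MulAction Γ P] [MulAction Γ L] [Compat Γ P L] [FaithfulSMul Γ P]

/-- Involutions are perspectivities and every pair of points or lines is fixed by one. -/
structure Pairs (Γ P L : Type*) [Membership P L] [ProjectivePlane P L] [Group Γ]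
  [MulAction Γ P] [MulAction Γ L] : Prop where
  three : 3 ≤ ProjectivePlane.order P L
  axis : ∀ g : Γ, g * g = 1 → g ≠ 1 → ∃ a : L, IsAxis (P := P) g a
  pts : ∀ A B : P, A ≠ B → ∃ g : Γ, g * g = 1 ∧ g ≠ 1 ∧ g • A = A ∧ g • B = B
  lines : ∀ l m : L, l ≠ m → ∃ g : Γ, g * g = 1 ∧ g ≠ 1 ∧ g • l = l ∧ g • m = m

theorem mem_persp_dual {t : Γ} {Z : P} {a : L} :
    t ∈ persp Γ (P := Configuration.Dual L) (L := Configuration.Dual P) a Z ↔ t ∈ persp Γ Z a :=
  ⟨fun h => ⟨h.2, h.1⟩, fun h => ⟨h.2, h.1⟩⟩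

theorem persp_dual_eq {Z : P} {a : L} :
    persp Γ (P := Configuration.Dual L) (L := Configuration.Dual P) a Z = persp Γ Z a :=
  Subgroup.ext fun _ => mem_persp_dual

theorem Pairs.flag (H : Pairs Γ P L) {g : Γ} (hg : g * g = 1) (h1 : g ≠ 1) :
    ∃ (Z : P) (a : L), g ∈ persp Γ Z a := by
  obtain ⟨a, ha⟩ := H.axis g hg h1
  obtain ⟨Z, hZ⟩ := exists_centre ha
  exact ⟨Z, a, ha, hZ⟩

theorem Pairs.dual (H : Pairs Γ P L) :
    Pairs Γ (Configuration.Dual L) (Configuration.Dual P) where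
  three := by rw [ProjectivePlane.Dual.order]; exact H.three
  axis := fun g hg h1 => by
    obtain ⟨Z, a, -, hZ⟩ := H.flag hg h1
    exact ⟨Z, hZ⟩
  pts := H.lines
  lines := H.pts

/-- There is an involutory perspectivity with the given centre and axis. -/
def Inv (Γ : Type*) [Group Γ] [MulAction Γ P] [MulAction Γ L] (Z : P) (a : L) : Prop :=
  ∃ g : Γ, g * g = 1 ∧ g ≠ 1 ∧ IsAxis (P := P) g a ∧ IsCentre L g Z

theorem Inv.dual {Z : P} {a : L} (h : Inv Γ Z a) :
    Inv Γ (P := Configuration.Dual L) (L := Configuration.Dual P) a Z :=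
  let ⟨g, hg, h1, ha, hZ⟩ := h; ⟨g, hg, h1, hZ, ha⟩

theorem Inv.smul {Z : P} {a : L} (h : Inv Γ Z a) (g : Γ) : Inv Γ (g • Z) (g • a) := by
  obtain ⟨t, ht, h1, ha, hZ⟩ := h
  refine ⟨g * t * g⁻¹, ?_, fun e => h1 ?_, conj_axis g ha, conj_centre g hZ⟩
  · rw [show g * t * g⁻¹ * (g * t * g⁻¹) = g * (t * t) * g⁻¹ by group, ht, mul_one, mul_inv_cancel]
  · rwa [mul_inv_eq_one, mul_eq_left] at e

/-- Every line is the axis of an involutory elation. -/
theorem Pairs.exists_inv_axis (H : Pairs Γ P L) (he : Even (ProjectivePlane.order P L)) (a : L) :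
    ∃ Z : P, Z ∈ a ∧ Inv Γ Z a := by
  obtain ⟨A, hA, -⟩ := exists_ne_on_line a
    (Classical.choose (Nondegenerate.exists_point (P := P) a))
  obtain ⟨B, hB, hBA⟩ := exists_ne_on_line a A
  obtain ⟨g, hg, h1, hgA, hgB⟩ := H.pts A B hBA.symm
  obtain ⟨Z, b, hgb⟩ := H.flag hg h1
  have hZb : Z ∈ b := (centre_mem_iff_even hg h1 hgb).2 he
  have hfix : ∀ X : P, g • X = X → X ∈ b := fun X hX => by
    rcases fixed_point h1 hgb.1 hgb.2 hX with h | rfl
    · exact h
    · exact hZb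
  obtain rfl : b = a := line_eq hBA.symm (hfix A hgA) (hfix B hgB) hA hB
  exact ⟨Z, hZb, g, hg, h1, hgb⟩

theorem Pairs.inv_mem (H : Pairs Γ P L) (he : Even (ProjectivePlane.order P L)) {Z : P} {a : L}
    (h : Inv Γ Z a) : Z ∈ a := by
  obtain ⟨g, hg, h1, hgp⟩ := h
  exact (centre_mem_iff_even hg h1 (show g ∈ persp Γ Z a from hgp)).2 he

variable [Finite Γ]

/-- Through a point, the axes of elations centred elsewhere form one orbit. -/
theorem Pairs.pencil_orbit (H : Pairs Γ P L) (he : Even (ProjectivePlane.order P L)) {A : P}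
    {a b : L} (hAa : A ∈ a) (hAb : A ∈ b) (ha : ∃ Z : P, Z ≠ A ∧ Inv Γ Z a)
    (hb : ∃ Z : P, Z ≠ A ∧ Inv Γ Z b) : ∃ g : Γ, g • A = A ∧ g • a = b := by
  have := gleason (stabilizer Γ A) {l : L | A ∈ l ∧ ∃ Z : P, Z ≠ A ∧ Inv Γ Z l} ?_ ?_
    (x := a) (y := b) ⟨hAa, ha⟩ ⟨hAb, hb⟩
  · obtain ⟨g, hg, hgab⟩ := this
    exact ⟨g, hg, hgab⟩
  · rintro l ⟨hAl, Z, hZA, hZl⟩
    have hZmem := H.inv_mem he hZl
    obtain ⟨g, hg, h1, hax, hce⟩ := hZl
    refine ⟨g, hax A hAl, hg, axis_fixed hax, fun k hk hgk => ?_⟩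
    rcases fixed_line h1 hax hce hgk with h | h
    · exact line_eq hZA.symm hk.1 h hAl hZmem
    · exact h
  · rintro g hg l ⟨hAl, Z, hZA, hZl⟩
    refine ⟨?_, g • Z, fun e => hZA (MulAction.injective g (e.trans (show g • A = A from hg).symm)),
      hZl.smul g⟩
    have := (mem_smul g A l).2 hAl
    rwa [show g • A = A from hg] at this

/-- If some line is the axis of elations with two centres, the order is a prime power. -/
theorem Pairs.even_multi (H : Pairs Γ P L) (he : Even (ProjectivePlane.order P L)) {a : L}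
    {Y Z : P} (hYZ : Y ≠ Z) (hY : Inv Γ Y a) (hZ : Inv Γ Z a) :
    IsPrimePow (ProjectivePlane.order P L) := by
  let Multi : L → Prop := fun l => ∃ Y Z : P, Y ≠ Z ∧ Inv Γ Y l ∧ Inv Γ Z l
  have hMsmul : ∀ (g : Γ) (l : L), Multi l → Multi (g • l) := fun g l ⟨Y, Z, h, hY, hZ⟩ =>
    ⟨g • Y, g • Z, fun e => h (MulAction.injective g e), hY.smul g, hZ.smul g⟩
  have hother : ∀ l, Multi l → ∀ A : P, ∃ Z : P, Z ≠ A ∧ Inv Γ Z l := by
    rintro l ⟨Y, Z, h, hY, hZ⟩ A
    by_cases hYA : Y = A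
    · exact ⟨Z, fun e => h (hYA.trans e.symm), hZ⟩
    · exact ⟨Y, hYA, hY⟩
  have hsingle : ∀ (A : P) (l m : L), A ∈ l → A ∈ m → Multi m → ¬ Multi l →
      ∀ C : P, Inv Γ C l → C = A := by
    intro A l m hAl hAm hm hl C hC
    by_contra hCA
    obtain ⟨g, -, hg⟩ := H.pencil_orbit he hAm hAl (hother m hm A) ⟨C, hCA, hC⟩
    exact hl (hg ▸ hMsmul g m hm)
  have hall : ∀ A : P, ∃ m : L, A ∈ m ∧ Multi m := by
    intro B
    by_contra hno
    push_neg at hno
    have haM : Multi a := ⟨Y, Z, hYZ, hY, hZ⟩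
    have hBa : B ∉ a := fun h => hno a h haM
    -- every line through `B` has its centre on `a`, so `B` is no centre
    obtain ⟨c, hBc, hc⟩ : ∃ c : L, B ∈ c ∧ Inv Γ B c := by
      obtain ⟨c, hBc, hc⟩ := H.dual.exists_inv_axis (by rwa [ProjectivePlane.Dual.order]) B
      exact ⟨c, hBc, hc.dual⟩
    obtain ⟨A, hAc, hAa⟩ := exists_meet (P := P) c a (fun e => hBa (e ▸ hBc))
    exact hBa ((hsingle A c a hAc hAa haM (hno c hBc) B hc) ▸ hAa)
  have hMall : ∀ l : L, Multi l := by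
    intro u
    by_contra hu
    obtain ⟨C, hCu, hC⟩ := H.exists_inv_axis he u
    obtain ⟨A, hAu, hAC⟩ := exists_ne_on_line u C
    obtain ⟨m, hAm, hm⟩ := hall A
    exact hAC (hsingle A u m hAu hAm hm hu C hC).symm
  obtain ⟨A, -, -⟩ := exists_ne_on_line a Y
  obtain ⟨c, hAc, hc⟩ : ∃ c : L, A ∈ c ∧ Inv Γ A c := by
    obtain ⟨c, hAc, hc⟩ := H.dual.exists_inv_axis (by rwa [ProjectivePlane.Dual.order]) A
    exact ⟨c, hAc, hc.dual⟩
  have h2 : 2 ≤ Nat.card (persp Γ A c) := by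
    obtain ⟨g, -, h1, hgp⟩ := hc
    exact (Subgroup.one_lt_card_iff_ne_bot _).2 fun e => h1 (by
      have : g ∈ persp Γ A c := hgp
      rwa [e, Subgroup.mem_bot] at this)
  rw [← ProjectivePlane.Dual.order]
  refine isPrimePow_of_equal (Γ := Γ) (P := Configuration.Dual L) (L := Configuration.Dual P)
    (a := A) h2 fun l hl => ?_
  change L at l
  change A ∈ l at hl
  refine (congrArg (fun V : Subgroup Γ => Nat.card V) (persp_dual_eq (Z := A) (a := l))).trans ?_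
  obtain ⟨g, hgA, hgc⟩ :=
    H.pencil_orbit he hAc hl (hother c (hMall c) A) (hother _ (hMall l) A)
  rw [← hgc]
  conv_lhs => rw [← hgA]
  exact persp_card_conj g A c

/-- Even order: the order is a prime power. -/
theorem Pairs.even (H : Pairs Γ P L) (he : Even (ProjectivePlane.order P L)) :
    IsPrimePow (ProjectivePlane.order P L) := by
  by_cases h : ∃ (a : L) (Y Z : P), Y ≠ Z ∧ Inv Γ Y a ∧ Inv Γ Z a
  · obtain ⟨a, Y, Z, hYZ, hY, hZ⟩ := h
    exact H.even_multi he hYZ hY hZ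
  by_cases h' : ∃ (A : P) (b c : L), b ≠ c ∧ Inv Γ A b ∧ Inv Γ A c
  · obtain ⟨A, b, c, hbc, hb, hc⟩ := h'
    rw [← ProjectivePlane.Dual.order]
    exact H.dual.even_multi (by rwa [ProjectivePlane.Dual.order]) hbc hb.dual hc.dual
  push_neg at h h'
  exfalso
  obtain ⟨l₀⟩ : Nonempty L := ⟨(ProjectivePlane.exists_config (P := P) (L := L)).choose_spec.choose_spec.choose_spec.choose⟩
  obtain ⟨Z, hZ, hZa⟩ := H.exists_inv_axis he l₀
  obtain ⟨b, hZb, hb⟩ := exists_ne_in_pencil (L := L) Z l₀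
  obtain ⟨Z', hZ'b, hZ'⟩ := H.exists_inv_axis he b
  have hZa0 := hZa
  obtain ⟨g, hg, h1, hax, hce⟩ := hZa0
  have hgb : g • b = b := hce b hZb
  have h2 := hZ'.smul g
  rw [hgb] at h2
  have h3 : g • Z' = Z' := by
    by_contra hne
    exact h b _ _ hne h2 hZ'
  have h4 : Z' ∈ l₀ := by
    rcases fixed_point h1 hax hce h3 with h | rfl
    · exact h
    · exact hZ
  obtain rfl : Z' = Z := point_eq hb hZ'b h4 hZb hZ
  exact h' _ b l₀ hb hZ' hZa

end CfsgLib.OW
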