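import Cfsg.Agent.OstromWagner.Even
import Mathlib.LinearAlgebra.Matrix.Charpoly.FiniteField
import Mathlib.LinearAlgebra.Matrix.Charpoly.Coeff

/-!
# Involutory homologies: products, inversion, uniqueness; the case without elations
-/

set_option autoImplicit false

namespace CfsgLib.OW

open Configuration MulAction

variable {Γ P L : Type*} [Membership P L] [ProjectivePlane P L] [Finite P] [Finite L] [Group Γ]
  [MulAction Γ P] [MulAction Γ L] [Compat Γ P L] [FaithfulSMul Γ P]

theorem Pairs.inv_notMem (H : Pairs Γ P L) (ho : ¬ Even (ProjectivePlane.order P L)) {Z : P} {a : L}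
    (h : Inv Γ Z a) : Z ∉ a := by
  obtain ⟨g, hg, h1, hgp⟩ := h
  exact fun hZ => ho ((centre_mem_iff_even hg h1 (show g ∈ persp Γ Z a from hgp)).1 hZ)

/-- Two involutory homologies with one axis and different centres multiply to an elation. -/
theorem product_elation {h h' : Γ} (hh : h * h = 1) (hh' : h' * h' = 1) {C C' : P}
    {a : L} (hC : h ∈ persp Γ C a) (hC' : h' ∈ persp Γ C' a) (hCa : C ∉ a) (hC'a : C' ∉ a)
    (hh1 : h ≠ 1) (hh'1 : h' ≠ 1) (hne : C ≠ C') :
    h * h' ∈ elations Γ P a ∧ h * h' ≠ 1 := by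
  have hinv : h⁻¹ = h := inv_eq_of_mul_eq_one_right hh
  have hprod1 : h * h' ≠ 1 := by
    intro e
    have : h' = h := by rw [← hinv, eq_inv_iff_mul_eq_one]; rw [← inv_eq_of_mul_eq_one_right e, hinv, hh]
    exact hne (centre_unique hh1 hC.2 (this ▸ hC'.2))
  have hax : IsAxis (P := P) (h * h') a := fun p hp => by rw [mul_smul, hC'.1 p hp, hC.1 p hp]
  obtain ⟨E, hE⟩ := exists_centre hax
  refine ⟨⟨hax, E, ?_, hE⟩, hprod1⟩
  by_contra hEa
  have hgE : (h * h') • E = E := centre_fixed hE
  -- `h` inverts the product, so it fixes its centre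
  have hcE : IsCentre L (h * h') (h • E) := by
    have h2 : IsCentre L (h * (h * h') * h⁻¹) (h • E) := conj_centre h hE
    have e : h * (h * h') * h⁻¹ = (h * h')⁻¹ := by
      rw [mul_inv_rev, inv_eq_of_mul_eq_one_right hh', hinv, ← mul_assoc h h h', hh, one_mul]
    rw [e] at h2
    exact fun l hl => (inv_smul_eq_iff.1 (h2 l hl)).symm
  have hhE : h • E = E := centre_unique hprod1 hcE hE
  have hEC : E = C := (fixed_point hh1 hC.1 hC.2 hhE).resolve_left hEa
  subst hEC
  rw [mul_smul] at hgE
  have h2 : h' • E = E := by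
    have := congrArg (fun x => h⁻¹ • x) hgE
    simp only [inv_smul_smul] at this
    rw [this, hinv, hhE]
  exact hne ((fixed_point hh'1 hC'.1 hC'.2 h2).resolve_left hCa)

variable [Finite Γ]

/-- A homology inverts the elations with its axis. -/
theorem invert_elations {h : Γ} (hh : h * h = 1) (hh1 : h ≠ 1) {C : P} {a : L} (hC : h ∈ persp Γ C a)
    (hCa : C ∉ a) : ∀ t ∈ elations Γ P a, h * t * h⁻¹ = t⁻¹ := by
  refine inv_of_fpf _ hh (fun t ht => conj_elations (axis_fixed hC.1) ht) fun t ht hcomm => ?_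
  have h1 : h • (t • C) = t • C := by rw [← mul_smul, hcomm, mul_smul, centre_fixed hC.2]
  have h2 : t • C ∉ a := fun e => hCa ((mem_of_fix (axis_fixed ht.1) C).1 e)
  exact elation_free ht hCa ((fixed_point hh1 hC.1 hC.2 h1).resolve_left h2)

theorem elations_comm {h : Γ} (hh : h * h = 1) (hh1 : h ≠ 1) {C : P} {a : L} (hC : h ∈ persp Γ C a)
    (hCa : C ∉ a) {s t : Γ} (hs : s ∈ elations Γ P a) (ht : t ∈ elations Γ P a) : s * t = t * s := by
  have hi := invert_elations hh hh1 hC hCa
  have h1 := hi _ (mul_mem hs ht)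
  have h2 : h * (s * t) * h⁻¹ = (h * s * h⁻¹) * (h * t * h⁻¹) := by group
  rw [h2, hi s hs, hi t ht, mul_inv_rev] at h1
  have := congrArg (fun x => x⁻¹) h1
  simp only [mul_inv_rev, inv_inv] at this
  exact this.symm

theorem elations_odd {h : Γ} (hh : h * h = 1) (hh1 : h ≠ 1) {C : P} {a : L} (hC : h ∈ persp Γ C a)
    (hCa : C ∉ a) : Odd (Nat.card (elations Γ P a)) := by
  rw [← Nat.not_even_iff_odd, even_iff_two_dvd]
  intro hd
  haveI := Fact.mk Nat.prime_two
  obtain ⟨⟨t, ht⟩, ho⟩ := exists_prime_orderOf_dvd_card' 2 hd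
  rw [Subgroup.orderOf_mk] at ho
  have ht2 : t * t = 1 := by rw [← pow_two, ← ho]; exact pow_orderOf_eq_one t
  have h1 := invert_elations hh hh1 hC hCa t ht
  rw [inv_eq_of_mul_eq_one_right ht2, mul_inv_eq_iff_eq_mul] at h1
  have h3 : h • (t • C) = t • C := by rw [← mul_smul, h1, mul_smul, centre_fixed hC.2]
  have h2 : t • C ∉ a := fun e => hCa ((mem_of_fix (axis_fixed ht.1) C).1 e)
  have h4 := elation_free ht hCa ((fixed_point hh1 hC.1 hC.2 h3).resolve_left h2)
  rw [h4, orderOf_one] at ho
  omega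

/-- The involutory homology with given centre and axis is unique when the axis carries an elation. -/
theorem hom_unique {h h' : Γ} (hh : h * h = 1) (hh' : h' * h' = 1) (hh1 : h ≠ 1) (hh'1 : h' ≠ 1)
    {C : P} {a : L} (hC : h ∈ persp Γ C a) (hC' : h' ∈ persp Γ C a) (hCa : C ∉ a)
    (hT : elations Γ P a ≠ ⊥) : h = h' := by
  obtain ⟨⟨t, ht⟩, ht1⟩ := Subgroup.ne_bot_iff_exists_ne_one.1 hT
  have hinv : h⁻¹ = h := inv_eq_of_mul_eq_one_right hh
  have hinv' : h'⁻¹ = h' := inv_eq_of_mul_eq_one_right hh'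
  have e1 := invert_elations hh hh1 hC hCa t ht
  have e2 := invert_elations hh' hh'1 hC' hCa t ht
  have hc : (h * h') * t = t * (h * h') := by
    have e3 : h' * t = t⁻¹ * h' := by rw [← mul_inv_eq_iff_eq_mul]; exact e2
    have e4 : h * t⁻¹ = t * h := by
      have := invert_elations hh hh1 hC hCa t⁻¹ (inv_mem ht)
      rw [inv_inv] at this
      rw [← mul_inv_eq_iff_eq_mul]; exact this
    rw [mul_assoc, e3, ← mul_assoc, e4, mul_assoc]
  have hg : h * h' ∈ persp Γ C a := mul_mem hC hC'
  have h1 : (h * h') • (t • C) = t • C := by rw [← mul_smul, hc, mul_smul, centre_fixed hg.2]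
  by_contra hne
  have hg1 : h * h' ≠ 1 := fun e => hne (by
    have := inv_eq_of_mul_eq_one_right e
    rw [hinv] at this
    exact this)
  have h2 : t • C ∉ a := fun e => hCa ((mem_of_fix (axis_fixed ht.1) C).1 e)
  exact ht1 (Subtype.ext (elation_free ht hCa ((fixed_point hg1 hg.1 hg.2 h1).resolve_left h2)))

/-- The centres of the involutory homologies with one axis form an orbit of its elations. -/
theorem exists_elation_smul {C C' : P} {a : L} (hC : Inv Γ C a) (hC' : Inv Γ C' a) (hCa : C ∉ a)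
    (hC'a : C' ∉ a) : ∃ s ∈ elations Γ P a, s • C = C' := by
  rcases eq_or_ne C C' with rfl | hne
  · exact ⟨1, one_mem _, one_smul Γ C⟩
  obtain ⟨h, hh, hh1, hp⟩ := hC
  obtain ⟨h', hh', hh'1, hp'⟩ := hC'
  obtain ⟨hg, -⟩ := product_elation hh hh' (show h ∈ persp Γ C a from hp)
    (show h' ∈ persp Γ C' a from hp') hCa hC'a hh1 hh'1 hne
  obtain ⟨k, hk⟩ := elations_odd hh hh1 (show h ∈ persp Γ C a from hp) hCa
  set g := h * h' with hg_def
  -- a square root of the product
  set s := g ^ (k + 1) with hs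
  have hsT : s ∈ elations Γ P a := pow_mem hg _
  have hss : s * s = g := by
    have h1 : g ^ Nat.card (elations Γ P a) = 1 :=
      orderOf_dvd_iff_pow_eq_one.1 (by
        have := orderOf_dvd_natCard (⟨g, hg⟩ : elations Γ P a)
        rwa [Subgroup.orderOf_mk] at this)
    rw [hs, ← pow_add, show k + 1 + (k + 1) = Nat.card (elations Γ P a) + 1 by omega, pow_succ, h1,
      one_mul]
  refine ⟨s⁻¹, inv_mem hsT, ?_⟩
  have e1 := invert_elations hh hh1 (show h ∈ persp Γ C a from hp) hCa s⁻¹ (inv_mem hsT)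
  rw [inv_inv, mul_inv_eq_iff_eq_mul] at e1
  have hh'eq : s⁻¹ * h * s = h' := by
    have h3 : s⁻¹ * h = h * s := by
      have e2 := invert_elations hh hh1 (show h ∈ persp Γ C a from hp) hCa s hsT
      rw [mul_inv_eq_iff_eq_mul] at e2
      exact e2.symm
    rw [h3, mul_assoc, hss, hg_def, ← mul_assoc, hh, one_mul]
  have h4 := conj_persp s⁻¹ (show h ∈ persp Γ C a from hp)
  rw [inv_inv, hh'eq] at h4
  exact centre_unique hh'1 h4.2 hp'.2

/-- If a homology fixes exactly two points of the line, its elations are products from these centres. -/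
theorem elations_decomp {a : L} {W W' : P} {h : Γ} (ha : h • a = a)
    (honly : ∀ X : P, X ∈ a → h • X = X → X = W ∨ X = W')
    (hcomm : ∀ s ∈ elations Γ P a, ∀ t ∈ elations Γ P a, s * t = t * s)
    (hodd : Odd (Nat.card (elations Γ P a))) (hh : h * h = 1) :
    ∀ t ∈ elations Γ P a, ∃ u ∈ persp Γ W a, ∃ v ∈ persp Γ W' a, t = u * v := by
  have hinv : h⁻¹ = h := inv_eq_of_mul_eq_one_right hh
  have hside : ∀ u ∈ elations Γ P a, h * u * h⁻¹ = u ∨ h * u * h⁻¹ = u⁻¹ →
      u ∈ persp Γ W a ∨ u ∈ persp Γ W' a := by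
    intro u hu hcase
    by_cases hu1 : u = 1
    · exact Or.inl (hu1 ▸ one_mem _)
    obtain ⟨Z, hZ, huZ⟩ := exists_mem_persp hu
    have h2 := conj_persp h huZ
    have h3 : u ∈ persp Γ (h • Z) (h • a) := by
      rcases hcase with e | e
      · rwa [e] at h2
      · rw [e] at h2
        have := inv_mem h2
        rwa [inv_inv] at this
    rw [ha] at h3
    rcases honly Z hZ (centre_unique hu1 h3.2 huZ.2) with rfl | rfl
    · exact Or.inl huZ
    · exact Or.inr huZ
  intro t ht
  obtain ⟨k, hk⟩ := hodd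
  set s := t ^ (k + 1) with hs
  have hsT : s ∈ elations Γ P a := pow_mem ht _
  have hss : s * s = t := by
    have h1 : t ^ Nat.card (elations Γ P a) = 1 :=
      orderOf_dvd_iff_pow_eq_one.1 (by
        have := orderOf_dvd_natCard (⟨t, ht⟩ : elations Γ P a)
        rwa [Subgroup.orderOf_mk] at this)
    rw [hs, ← pow_add, show k + 1 + (k + 1) = Nat.card (elations Γ P a) + 1 by omega, pow_succ, h1,
      one_mul]
  set r := h * s * h⁻¹ with hr
  have hrT : r ∈ elations Γ P a := conj_elations ha hsT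
  have hhr : h * r * h⁻¹ = s := by
    rw [hr, hinv, ← mul_assoc h (h * s) h, ← mul_assoc h h s, hh, one_mul, mul_assoc, hh, mul_one]
  have hu : h * (s * r) * h⁻¹ = s * r := by
    rw [show h * (s * r) * h⁻¹ = (h * s * h⁻¹) * (h * r * h⁻¹) by group, ← hr, hhr]
    exact hcomm r hrT s hsT
  have hv : h * (s * r⁻¹) * h⁻¹ = (s * r⁻¹)⁻¹ := by
    rw [show h * (s * r⁻¹) * h⁻¹ = (h * s * h⁻¹) * (h * r * h⁻¹)⁻¹ by group, ← hr, hhr,
      mul_inv_rev, inv_inv]
  have hprod : t = (s * r) * (s * r⁻¹) := by
    rw [← hss, hcomm (s * r) (mul_mem hsT hrT) (s * r⁻¹) (mul_mem hsT (inv_mem hrT)),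
      mul_assoc s r⁻¹ (s * r), hcomm r⁻¹ (inv_mem hrT) (s * r) (mul_mem hsT hrT), mul_assoc s r r⁻¹,
      mul_inv_cancel, mul_one]
  rcases hside _ (mul_mem hsT hrT) (Or.inl hu) with h1 | h1 <;>
    rcases hside _ (mul_mem hsT (inv_mem hrT)) (Or.inr hv) with h2 | h2
  · exact ⟨_, mul_mem h1 h2, 1, one_mem _, by rw [mul_one]; exact hprod⟩
  · exact ⟨_, h1, _, h2, hprod⟩
  · exact ⟨_, h2, _, h1, by rw [hcomm _ (mul_mem hsT (inv_mem hrT)) _ (mul_mem hsT hrT)]; exact hprod⟩
  · exact ⟨1, one_mem _, _, mul_mem h1 h2, by rw [one_mul]; exact hprod⟩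

omit [Group Γ] [MulAction Γ P] [MulAction Γ L] [Compat Γ P L] [FaithfulSMul Γ P] [Finite Γ] in
/-- A finite projective plane has no symmetric bijection between lines and points without absolute
elements. -/
theorem no_polarity (π : L → P) (hπ : Function.Bijective π) (hsymm : ∀ a b : L, π a ∈ b → π b ∈ a)
    (habs : ∀ a : L, π a ∉ a) : False := by
  classical
  haveI := Fintype.ofFinite P
  haveI := Fintype.ofFinite L
  set n := ProjectivePlane.order P L with hn
  have hn1 : 1 < n := ProjectivePlane.one_lt_order P L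
  obtain ⟨p, hp, hpn⟩ := Nat.exists_prime_and_dvd (n := n) (by omega)
  haveI := Fact.mk hp
  have hn0 : (n : ZMod p) = 0 := (ZMod.natCast_eq_zero_iff n p).2 hpn
  let M : Matrix L L (ZMod p) := fun a b => if π a ∈ b then 1 else 0
  let J : Matrix L L (ZMod p) := fun _ _ => 1
  have hrow : ∀ a : L, (Finset.univ.filter fun b : L => π a ∈ b).card = n + 1 := fun a => by
    rw [hn, ← ncard_pencil (L := L) (π a), Set.ncard_eq_toFinset_card']
    congr 1; ext; simp
  have hMM : M * M = J := by
    ext a c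
    rw [Matrix.mul_apply]
    have e : ∀ b, M a b * M b c = if π a ∈ b ∧ π c ∈ b then 1 else 0 := by
      intro b
      have hbc : π b ∈ c ↔ π c ∈ b := ⟨hsymm b c, hsymm c b⟩
      simp only [M, hbc]
      split_ifs <;> simp_all
    simp only [e, Finset.sum_boole, J]
    by_cases hac : a = c
    · subst hac
      simp [hrow, hn0]
    · have hne : π a ≠ π c := fun e => hac (hπ.1 e)
      obtain ⟨l, hl, hl'⟩ := exists_line_through (L := L) _ _ hne
      rw [Finset.card_eq_one.2 ⟨l, ?_⟩, Nat.cast_one]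
      ext b
      simp only [Finset.mem_filter, Finset.mem_univ, true_and, Finset.mem_singleton]
      exact ⟨fun h => line_eq hne h.1 h.2 hl hl', fun h => h ▸ ⟨hl, hl'⟩⟩
  have hMJ : M * J = J := by
    ext a c
    rw [Matrix.mul_apply]
    simp [M, J, hrow, hn0]
  have hpow : ∀ k, M ^ (k + 2) = J := by
    intro k
    induction k with
    | zero => rw [zero_add, pow_two, hMM]
    | succ k ih => rw [show k + 1 + 2 = (k + 2) + 1 by omega, pow_succ', ih, hMJ]
  have h1 := ZMod.trace_pow_card M
  have hcardL : (Fintype.card L : ZMod p) = 1 := by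
    rw [← Nat.card_eq_fintype_card, card_lines_eq (P := P), ← hn]
    push_cast
    rw [hn0]
    ring
  have hMp : M ^ p = J := by
    have h2 := hpow (p - 2)
    rwa [show p - 2 + 2 = p by have := hp.two_le; omega] at h2
  rw [hMp] at h1
  simp only [Matrix.trace, Matrix.diag, J, M, habs, if_false, Finset.sum_const_zero] at h1
  rw [Finset.sum_const, Finset.card_univ, nsmul_eq_mul, mul_one, hcardL, zero_pow hp.ne_zero] at h1
  exact one_ne_zero h1

/-- Without elations the homologies would form a polarity without absolute points. -/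
theorem Pairs.exists_elation (H : Pairs Γ P L) (ho : ¬ Even (ProjectivePlane.order P L)) :
    ∃ a : L, elations Γ P a ≠ ⊥ := by
  classical
  by_contra hno
  push_neg at hno
  have hax : ∀ (a : L) (C C' : P), Inv Γ C a → Inv Γ C' a → C = C' := by
    intro a C C' hC hC'
    by_contra hne
    obtain ⟨h, hh, hh1, hp⟩ := hC
    obtain ⟨h', hh', hh'1, hp'⟩ := hC'
    obtain ⟨hg, hg1⟩ := product_elation hh hh' (show h ∈ persp Γ C a from hp)
      (show h' ∈ persp Γ C' a from hp') (H.inv_notMem ho ⟨h, hh, hh1, hp⟩)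
      (H.inv_notMem ho ⟨h', hh', hh'1, hp'⟩) hh1 hh'1 hne
    exact hg1 (by rwa [hno a, Subgroup.mem_bot] at hg)
  have hce : ∀ (C : P) (a a' : L), Inv Γ C a → Inv Γ C a' → a = a' := by
    intro C a a' ha ha'
    by_contra hne
    obtain ⟨h, hh, hh1, hp⟩ := ha
    obtain ⟨h', hh', hh'1, hp'⟩ := ha'
    have hna := H.inv_notMem ho ⟨h, hh, hh1, hp⟩
    have hna' := H.inv_notMem ho ⟨h', hh', hh'1, hp'⟩
    obtain ⟨hg, hg1⟩ := product_elation (Γ := Γ) (P := Configuration.Dual L)
      (L := Configuration.Dual P) hh hh' (C := a) (C' := a') (a := C)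
      (mem_persp_dual.2 hp) (mem_persp_dual.2 hp') hna hna' hh1 hh'1 hne
    obtain ⟨hC', b, hCb, hb⟩ := hg
    change L at b
    have : h * h' ∈ elations Γ P b := ⟨hb, C, hCb, hC'⟩
    exact hg1 (by rwa [hno b, Subgroup.mem_bot] at this)
  have hsymm : ∀ {C D : P} {c d : L}, Inv Γ C c → Inv Γ D d → D ∈ c → C ∈ d := by
    intro C D c d hC hD hDc
    have hCc := H.inv_notMem ho hC
    obtain ⟨h, hh, hh1, hax', hce'⟩ := hC
    have h2 := hD.smul h
    rw [hax' D hDc] at h2
    have hd : h • d = d := hce D _ _ h2 hD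
    rcases fixed_line hh1 hax' hce' hd with hx | rfl
    · exact hx
    · exact absurd hDc (H.inv_notMem ho hD)
  have hexax : ∀ l : L, ∃ C : P, Inv Γ C l := by
    intro l
    by_contra hl
    push_neg at hl
    have hpair : ∀ A B : P, A ∈ l → B ∈ l → A ≠ B → ∃ c : L, Inv Γ A c ∧ B ∈ c := by
      intro A B hA hB hAB
      obtain ⟨g, hg, h1, hgA, hgB⟩ := H.pts A B hAB
      obtain ⟨C, b, hgb⟩ := H.flag hg h1
      have hI : Inv Γ C b := ⟨g, hg, h1, hgb⟩
      rcases fixed_point h1 hgb.1 hgb.2 hgA with hAb | rfl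
      · rcases fixed_point h1 hgb.1 hgb.2 hgB with hBb | rfl
        · exact absurd (line_eq hAB hAb hBb hA hB ▸ hI) (hl C)
        · obtain ⟨g', hg', h1', hg'B, hg'A⟩ := H.pts B A hAB.symm
          obtain ⟨C', b', hgb'⟩ := H.flag hg' h1'
          -- `B` is a centre; need `A` to be one as well
          by_contra hno'
          push_neg at hno'
          obtain ⟨D, hD, hDA⟩ := exists_ne_on_line l A
          obtain ⟨E, hEl, hEA, hEB⟩ : ∃ E : P, E ∈ l ∧ E ≠ A ∧ E ≠ B := by
            by_contra hne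
            push_neg at hne
            have hsub : {x : P | x ∈ l} ⊆ {A, B} := fun x hx => by
              by_cases hxA : x = A
              · exact Or.inl hxA
              · exact Or.inr (hne x hx hxA)
            have := Set.ncard_le_ncard hsub
            rw [ncard_line l] at this
            have h2 : ({A, B} : Set P).ncard ≤ 2 := by
              refine (Set.ncard_insert_le _ _).trans ?_
              rw [Set.ncard_singleton]
            have := H.three
            omega
          -- `A` is no centre, so every other point of `l` is a centre whose axis contains `A`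
          obtain ⟨k, hk, hk1, hkA, hkE⟩ := H.pts A E hEA.symm
          obtain ⟨X, x, hkx⟩ := H.flag hk hk1
          have hIE : Inv Γ X x := ⟨k, hk, hk1, hkx⟩
          obtain ⟨hXE, hAx⟩ : X = E ∧ A ∈ x := by
            rcases fixed_point hk1 hkx.1 hkx.2 hkA with hAx | rfl
            · rcases fixed_point hk1 hkx.1 hkx.2 hkE with hEx | rfl
              · exact absurd (line_eq hEA.symm hAx hEx hA hEl ▸ hIE) (hl X)
              · exact ⟨rfl, hAx⟩
            · rcases fixed_point hk1 hkx.1 hkx.2 hkE with hEx | e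
              · -- `A` would be a centre with `E` on its axis
                have hBaxis : B ∈ x := by
                  have h5 := hsymm hI hIE hAb
                  exact h5
                exact absurd hBaxis (hno' x hIE)
              · exact absurd e hEA
          subst hXE
          obtain ⟨k', hk', hk'1, hk'B, hk'E⟩ := H.pts B X hEB.symm
          obtain ⟨Y, y, hky⟩ := H.flag hk' hk'1
          have hIY : Inv Γ Y y := ⟨k', hk', hk'1, hky⟩
          rcases fixed_point hk'1 hky.1 hky.2 hk'B with hBy | rfl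
          · rcases fixed_point hk'1 hky.1 hky.2 hk'E with hXy | rfl
            · exact hl Y (line_eq hEB.symm hBy hXy hB hEl ▸ hIY)
            · obtain rfl := hce _ _ _ hIY hIE
              exact hl X (line_eq hAB hAx hBy hA hB ▸ hIE)
          · rcases fixed_point hk'1 hky.1 hky.2 hk'E with hXy | e
            · obtain rfl := hce _ _ _ hIY hI
              exact hl B (line_eq hEA.symm hAb hXy hA hEl ▸ hI)
            · exact hEB e
      · rcases fixed_point h1 hgb.1 hgb.2 hgB with hBb | e
        · exact ⟨b, hI, hBb⟩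
        · exact absurd e.symm hAB
    obtain ⟨A, hA, -⟩ := exists_ne_on_line l (Classical.choose (Nondegenerate.exists_point (P := P) l))
    obtain ⟨B, hB, hBA⟩ := exists_ne_on_line l A
    obtain ⟨E, hE, hEA, hEB⟩ : ∃ E : P, E ∈ l ∧ E ≠ A ∧ E ≠ B := by
      by_contra hne
      push_neg at hne
      have hsub : {x : P | x ∈ l} ⊆ {A, B} := fun x hx => by
        by_cases hxA : x = A
        · exact Or.inl hxA
        · exact Or.inr (hne x hx hxA)
      have := Set.ncard_le_ncard hsub
      rw [ncard_line l] at this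
      have h2 : ({A, B} : Set P).ncard ≤ 2 := by
        refine (Set.ncard_insert_le _ _).trans ?_
        rw [Set.ncard_singleton]
      have := H.three
      omega
    obtain ⟨c, hc, hBc⟩ := hpair A B hA hB hBA.symm
    obtain ⟨c', hc', hEc⟩ := hpair A E hA hE hEA.symm
    obtain rfl := hce A _ _ hc hc'
    exact hl A (line_eq hEB hEc hBc hE hB ▸ hc)
  choose π hπ using hexax
  have hinj : Function.Injective π := fun a b e => hce (π a) a b (hπ a) (e ▸ hπ b)
  haveI := Fintype.ofFinite P
  haveI := Fintype.ofFinite L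
  exact no_polarity π ((Fintype.bijective_iff_injective_and_card π).2
      ⟨hinj, (ProjectivePlane.card_points_eq_card_lines P L).symm⟩)
    (fun a b h => hsymm (hπ b) (hπ a) h) (fun a => H.inv_notMem ho (hπ a))

end CfsgLib.OW
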