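import Cfsg.Agent.OstromWagner.Basic
import Mathlib.Combinatorics.Enumerative.DoubleCounting
import Mathlib.Tactic.LinearCombination

/-!
# Centre and axis, fixed subplanes, involutions
-/

set_option autoImplicit false

namespace CfsgLib.OW

open Configuration MulAction

variable {Γ P L : Type*} [Membership P L] [ProjectivePlane P L] [Finite P] [Finite L] [Group Γ]
  [MulAction Γ P] [MulAction Γ L] [Compat Γ P L] [FaithfulSMul Γ P]

instance finite_dual {α : Type*} [Finite α] : Finite (Configuration.Dual α) := ‹Finite α›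

include P in
theorem faithful_lines : FaithfulSMul Γ L :=
  ⟨fun {g h} hgh => by
    have : g⁻¹ * h = 1 := eq_one_of_lines P (L := L) fun l => by
      rw [mul_smul, inv_smul_eq_iff, hgh l]
    exact inv_mul_eq_one.1 this⟩

instance dualFaithful : FaithfulSMul Γ (Configuration.Dual L) := faithful_lines (P := P) (L := L)

theorem centre_unique {g : Γ} (h1 : g ≠ 1) {Y Z : P} (hY : IsCentre L g Y) (hZ : IsCentre L g Z) :
    Y = Z :=
  axis_unique (Γ := Γ) (P := Configuration.Dual L) (L := Configuration.Dual P) h1 hY hZ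

theorem exists_axis {g : Γ} {Z : P} (h : IsCentre L g Z) : ∃ a : L, IsAxis (P := P) g a :=
  exists_centre (Γ := Γ) (P := Configuration.Dual L) (L := Configuration.Dual P) (a := Z) h

theorem centre_fixed {g : Γ} {Z : P} (h : IsCentre L g Z) : g • Z = Z :=
  axis_fixed (Γ := Γ) (P := Configuration.Dual L) (L := Configuration.Dual P) (a := Z) h

/-- The fixed points of a perspectivity. -/
theorem fixed_point {g : Γ} (h1 : g ≠ 1) {a : L} {Z : P} (ha : IsAxis (P := P) g a)
    (hZ : IsCentre L g Z) {p : P} (hp : g • p = p) : p ∈ a ∨ p = Z :=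
  or_iff_not_imp_left.2 fun hpa => centre_unique h1 (centre_of_fixed ha hp hpa) hZ

/-- The fixed lines of a perspectivity. -/
theorem fixed_line {g : Γ} (h1 : g ≠ 1) {a : L} {Z : P} (ha : IsAxis (P := P) g a)
    (hZ : IsCentre L g Z) {l : L} (hl : g • l = l) : Z ∈ l ∨ l = a :=
  fixed_point (Γ := Γ) (P := Configuration.Dual L) (L := Configuration.Dual P) h1 hZ ha hl

section Sub

variable (U : Subgroup Γ)

/-- The fixed configuration of a subgroup containing a quadrangle is a projective plane. -/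
@[reducible] noncomputable def subPlane (h : HasQuad L (fixedPoints U P)) :
    @ProjectivePlane (fixedPoints U P) (fixedPoints U L)
      ⟨fun (l : fixedPoints U L) (p : fixedPoints U P) => (p : P) ∈ (l : L)⟩ :=
  letI : Membership (fixedPoints U P) (fixedPoints U L) :=
    ⟨fun (l : fixedPoints U L) (p : fixedPoints U P) => (p : P) ∈ (l : L)⟩
  have hline : ∀ (A B : fixedPoints U P), A ≠ B → ∀ l : L, (A : P) ∈ l → (B : P) ∈ l →
      l ∈ fixedPoints U L := fun A B hAB l hA hB u =>
    smul_line_eq (g := (u : Γ)) (fun e => hAB (Subtype.ext e)) hA hB (A.2 u) (B.2 u)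
  have hpoint : ∀ (l m : fixedPoints U L), l ≠ m → ∀ A : P, A ∈ (l : L) → A ∈ (m : L) →
      A ∈ fixedPoints U P := fun l m hlm A hl hm u =>
    smul_point_eq (g := (u : Γ)) (fun e => hlm (Subtype.ext e)) hl hm (l.2 u) (m.2 u)
  { exists_point := fun l => by
      obtain ⟨A, hA, B, hB, C, hC, D, hD, -, -, -, -, -, -, h1, -, -, -⟩ := h
      by_cases h2 : A ∈ (l : L) ∧ B ∈ (l : L)
      · exact ⟨⟨C, hC⟩, fun hh => h1 l ⟨h2.1, h2.2, hh⟩⟩
      · rcases not_and_or.1 h2 with h3 | h3
        · exact ⟨⟨A, hA⟩, h3⟩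
        · exact ⟨⟨B, hB⟩, h3⟩
    exists_line := fun p => by
      obtain ⟨A, hA, B, hB, C, hC, D, hD, hAB, hAC, hAD, hBC, hBD, hCD, h1, -, h3, h4⟩ := h
      obtain ⟨l, hlA, hlB⟩ := exists_line_through (L := L) A B hAB
      obtain ⟨m, hmC, hmD⟩ := exists_line_through (L := L) C D hCD
      obtain ⟨k, hkA, hkC⟩ := exists_line_through (L := L) A C hAC
      by_cases hpl : (p : P) ∈ l
      · by_cases hpm : (p : P) ∈ m
        · refine ⟨⟨k, hline ⟨A, hA⟩ ⟨C, hC⟩ (fun e => hAC (congrArg Subtype.val e)) k hkA hkC⟩,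
            fun hpk => ?_⟩
          have hkl : k ≠ l := fun e => h1 l ⟨hlA, hlB, e ▸ hkC⟩
          have h5 : (p : P) = A := point_eq hkl hpk hpl hkA hlA
          exact h3 m ⟨h5 ▸ hpm, hmC, hmD⟩
        · exact ⟨⟨m, hline ⟨C, hC⟩ ⟨D, hD⟩ (fun e => hCD (congrArg Subtype.val e)) m hmC hmD⟩, hpm⟩
      · exact ⟨⟨l, hline ⟨A, hA⟩ ⟨B, hB⟩ (fun e => hAB (congrArg Subtype.val e)) l hlA hlB⟩, hpl⟩
    eq_or_eq := fun {p₁ p₂ l₁ l₂} h1 h2 h3 h4 =>
      (Nondegenerate.eq_or_eq (P := P) (L := L) h1 h2 h3 h4).imp Subtype.ext Subtype.ext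
    mkPoint := fun {l m} hlm =>
      ⟨HasPoints.mkPoint (P := P) (fun e : (l : L) = m => hlm (Subtype.ext e)),
        hpoint l m hlm _ (HasPoints.mkPoint_ax _).1 (HasPoints.mkPoint_ax _).2⟩
    mkPoint_ax := fun {l m} hlm =>
      HasPoints.mkPoint_ax (P := P) (fun e : (l : L) = m => hlm (Subtype.ext e))
    mkLine := fun {A B} hAB =>
      ⟨HasLines.mkLine (L := L) (fun e : (A : P) = B => hAB (Subtype.ext e)),
        hline A B hAB _ (HasLines.mkLine_ax _).1 (HasLines.mkLine_ax _).2⟩
    mkLine_ax := fun {A B} hAB =>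
      HasLines.mkLine_ax (L := L) (fun e : (A : P) = B => hAB (Subtype.ext e))
    exists_config := by
      obtain ⟨A, hA, B, hB, C, hC, D, hD, hAB, hAC, hAD, hBC, hBD, hCD, h1, h2, h3, h4⟩ := h
      obtain ⟨l, hlA, hlD⟩ := exists_line_through (L := L) A D hAD
      obtain ⟨m, hmB, hmC⟩ := exists_line_through (L := L) B C hBC
      obtain ⟨k, hkB, hkD⟩ := exists_line_through (L := L) B D hBD
      exact ⟨⟨A, hA⟩, ⟨B, hB⟩, ⟨C, hC⟩,
        ⟨l, hline ⟨A, hA⟩ ⟨D, hD⟩ (fun e => hAD (congrArg Subtype.val e)) l hlA hlD⟩,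
        ⟨m, hline ⟨B, hB⟩ ⟨C, hC⟩ (fun e => hBC (congrArg Subtype.val e)) m hmB hmC⟩,
        ⟨k, hline ⟨B, hB⟩ ⟨D, hD⟩ (fun e => hBD (congrArg Subtype.val e)) k hkB hkD⟩,
        fun h' => h1 m ⟨h', hmB, hmC⟩, fun h' => h2 k ⟨h', hkB, hkD⟩,
        fun h' => h2 l ⟨hlA, h', hlD⟩, hmB, hkB, fun h' => h3 l ⟨hlA, h', hlD⟩, hmC,
        fun h' => h4 k ⟨hkB, h', hkD⟩⟩ }

instance subMembership : Membership (fixedPoints U P) (fixedPoints U L) :=
  ⟨fun (l : fixedPoints U L) (p : fixedPoints U P) => (p : P) ∈ (l : L)⟩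

/-- The order of the fixed subplane. -/
theorem exists_subOrder (h : HasQuad L (fixedPoints U P)) :
    ∃ m, 2 ≤ m ∧ (fixedPoints U P).ncard = m ^ 2 + m + 1 ∧ (fixedPoints U L).ncard = m ^ 2 + m + 1 ∧
      (∀ A ∈ fixedPoints U P, {l | l ∈ fixedPoints U L ∧ A ∈ l}.ncard = m + 1) ∧
      (∀ l ∈ fixedPoints U L, {A | A ∈ fixedPoints U P ∧ A ∈ l}.ncard = m + 1) := by
  letI := subPlane U h
  refine ⟨ProjectivePlane.order (fixedPoints U P) (fixedPoints U L),
    ProjectivePlane.one_lt_order _ _, ?_, ?_, fun A hA => ?_, fun l hl => ?_⟩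
  · rw [← Nat.card_coe_set_eq]
    exact card_points_eq (L := fixedPoints U L)
  · rw [← Nat.card_coe_set_eq]
    exact card_lines_eq (P := fixedPoints U P)
  · rw [← ncard_pencil (P := fixedPoints U P) (L := fixedPoints U L) ⟨A, hA⟩,
      ← Set.ncard_image_of_injective _ Subtype.val_injective]
    congr 1
    ext l
    exact ⟨fun ⟨h1, h2⟩ => ⟨⟨l, h1⟩, h2, rfl⟩, fun ⟨l', h1, h2⟩ => h2 ▸ ⟨l'.2, h1⟩⟩
  · rw [← ncard_line (P := fixedPoints U P) (L := fixedPoints U L) ⟨l, hl⟩,
      ← Set.ncard_image_of_injective _ Subtype.val_injective]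
    congr 1
    ext A
    exact ⟨fun ⟨h1, h2⟩ => ⟨⟨A, h1⟩, h2, rfl⟩, fun ⟨A', h1, h2⟩ => h2 ▸ ⟨A'.2, h1⟩⟩

end Sub

omit [ProjectivePlane P L] [Finite P] [Finite L] [Compat Γ P L] [FaithfulSMul Γ P] in
theorem fixedPoints_zpowers {α : Type*} [MulAction Γ α] (g : Γ) :
    fixedPoints (Subgroup.zpowers g) α = fixedBy α g := by
  ext a
  refine ⟨fun h => h ⟨g, Subgroup.mem_zpowers g⟩, fun h u => ?_⟩
  have : Subgroup.zpowers g ≤ stabilizer Γ a := (Subgroup.zpowers_le (g := g)).2 h
  exact this u.2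

/-- Baer: an involution fixing a quadrangle fixes a subplane of order the square root. -/
theorem baer {g : Γ} (hg : g * g = 1) (h1 : g ≠ 1) (hq : HasQuad L (fixedBy P g)) :
    ∃ M, ProjectivePlane.order P L = M ^ 2 ∧
      (fixedBy P g).ncard = M ^ 2 + M + 1 := by
  classical
  haveI := Fintype.ofFinite P
  haveI := Fintype.ofFinite L
  rw [← fixedPoints_zpowers] at hq
  obtain ⟨M, hM, hP, hL, hpen, -⟩ := exists_subOrder _ hq
  rw [fixedPoints_zpowers] at hP hL
  simp only [fixedPoints_zpowers] at hpen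
  set n := ProjectivePlane.order P L with hn
  let moved : Finset L := Finset.univ.filter fun l => g • l ≠ l
  let fixd : Finset P := Finset.univ.filter fun p => g • p = p
  have hmoved : (moved.card : ℤ) = (n ^ 2 + n + 1 : ℤ) - (M ^ 2 + M + 1) := by
    have h2 := Finset.card_filter_add_card_filter_not (s := (Finset.univ : Finset L))
      (fun l => g • l = l)
    rw [Finset.card_univ, ← Nat.card_eq_fintype_card, card_lines_eq (P := P)] at h2
    have h3 : (Finset.univ.filter fun l : L => g • l = l).card = M ^ 2 + M + 1 := by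
      rw [← hL, Set.ncard_eq_toFinset_card']
      congr 1; ext; simp
    rw [h3] at h2
    simp only [moved]
    push_cast [← hn] at *
    have h4 : ((M ^ 2 + M + 1 : ℕ) : ℤ) + ((Finset.univ.filter fun l : L => ¬ g • l = l).card : ℤ) =
        ((n ^ 2 + n + 1 : ℕ) : ℤ) := by exact_mod_cast h2
    push_cast at h4
    linarith
  have hfixd : fixd.card = M ^ 2 + M + 1 := by
    rw [← hP, Set.ncard_eq_toFinset_card']
    congr 1; ext; simp [fixd]
  have hup : ∀ l ∈ moved, (fixd.filter fun p => p ∈ l).card = 1 := by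
    intro l hl
    simp only [moved, Finset.mem_filter, Finset.mem_univ, true_and] at hl
    obtain ⟨A, hA, hgA⟩ := exists_fixed_on_line (P := P) hg hl
    refine Finset.card_eq_one.2 ⟨A, ?_⟩
    ext p
    simp only [fixd, Finset.mem_filter, Finset.mem_univ, true_and, Finset.mem_singleton]
    refine ⟨fun h => ?_, fun h => h ▸ ⟨hgA, hA⟩⟩
    by_contra hne
    exact hl (smul_line_eq hne h.2 hA h.1 hgA)
  have hdown : ∀ p ∈ fixd, ((moved.filter fun l => p ∈ l).card : ℤ) = (n : ℤ) - M := by
    intro p hp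
    simp only [fixd, Finset.mem_filter, Finset.mem_univ, true_and] at hp
    have h2 := Finset.card_filter_add_card_filter_not (s := Finset.univ.filter fun l : L => p ∈ l)
      (fun l => g • l = l)
    have h3 : (Finset.univ.filter fun l : L => p ∈ l).card = n + 1 := by
      rw [hn, ← ncard_pencil (L := L) p, Set.ncard_eq_toFinset_card']
      congr 1; ext; simp
    have h4 : ((Finset.univ.filter fun l : L => p ∈ l).filter fun l => g • l = l).card = M + 1 := by
      rw [← hpen p hp, Set.ncard_eq_toFinset_card']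
      congr 1; ext; simp [and_comm]
    have h5 : (moved.filter fun l => p ∈ l) =
        ((Finset.univ.filter fun l : L => p ∈ l).filter fun l => ¬ g • l = l) := by
      ext; simp [moved, and_comm]
    rw [h3, h4] at h2
    rw [h5]
    omega
  have hsum := Finset.sum_card_bipartiteAbove_eq_sum_card_bipartiteBelow
    (s := fixd) (t := moved) (fun p l => p ∈ l)
  have h6 : (∑ p ∈ fixd, ((moved.filter fun l => p ∈ l).card : ℤ)) =
      ∑ l ∈ moved, ((fixd.filter fun p => p ∈ l).card : ℤ) := by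
    exact_mod_cast hsum
  rw [Finset.sum_congr rfl hdown, Finset.sum_congr (s₁ := moved) (g := fun _ => (1 : ℤ)) rfl (fun l hl => by rw [hup l hl, Nat.cast_one]),
    Finset.sum_const, Finset.sum_const, nsmul_eq_mul, nsmul_eq_mul, mul_one, hfixd, hmoved] at h6
  have hne : (n : ℤ) - M ≠ 0 := by
    intro he
    refine h1 (eq_of_smul_eq_smul (α := P) fun p => ?_)
    rw [one_smul]
    have hall : fixedBy P g = Set.univ := by
      refine Set.eq_of_subset_of_ncard_le (Set.subset_univ _) ?_
      rw [hP, Set.ncard_univ, card_points_eq (L := L)]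
      have : (n : ℕ) = M := by omega
      rw [← hn, this]
    exact hall.ge (Set.mem_univ p)
  refine ⟨M, ?_, hP⟩
  push_cast at h6
  have h7 : ((n : ℤ) - M) * ((M : ℤ) ^ 2 - n) = 0 := by linear_combination h6
  have h8 := (mul_eq_zero.1 h7).resolve_left hne
  exact_mod_cast (sub_eq_zero.1 h8).symm

/-- An involution without fixed quadrangle is a perspectivity. -/
theorem exists_axis_of_involution {g : Γ} (hg : g * g = 1)
    (hn : 3 ≤ ProjectivePlane.order P L) (hq : ¬ HasQuad L (fixedBy P g)) :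
    ∃ a : L, IsAxis (P := P) g a := by
  classical
  haveI := Fintype.ofFinite P
  haveI := Fintype.ofFinite L
  set n := ProjectivePlane.order P L with hn'
  have hf : n + 1 ≤ (fixedBy P g).ncard := by
    rw [ncard_fixed_eq (L := L) g]
    let fl : Finset L := Finset.univ.filter fun l => g • l = l
    have hfl : fl.card = (fixedBy L g).ncard := by
      rw [Set.ncard_eq_toFinset_card']; congr 1; ext; simp [fl]
    have hcover : (Finset.univ : Finset P) ⊆ fl.biUnion fun l => Finset.univ.filter fun p => p ∈ l := by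
      intro p _
      simp only [fl, Finset.mem_biUnion, Finset.mem_filter, Finset.mem_univ, true_and]
      by_cases hp : g • p = p
      · -- a moved point gives a fixed line
        have hfl' : ∀ q : P, g • q ≠ q → ∃ k : L, q ∈ k ∧ g • k = k := by
          intro q hq'
          obtain ⟨k, hk, hk'⟩ := exists_line_through (L := L) q (g • q) (Ne.symm hq')
          refine ⟨k, hk, line_eq hq' ((mem_smul g q k).2 hk) ?_ hk' hk⟩
          rw [mem_smul', inv_eq_of_mul_eq_one_right hg]
          exact hk'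
        obtain ⟨l, hl, -⟩ := exists_ne_in_pencil (L := L) p
          (Classical.choose (exists_line_avoid (L := L) p))
        by_cases hgl : g • l = l
        · exact ⟨l, hgl, hl⟩
        obtain ⟨q, hql, hqp⟩ := exists_ne_on_line l p
        have hgq : g • q ≠ q := fun e => hgl (smul_line_eq hqp hql hl e hp)
        obtain ⟨k, hqk, hgk⟩ := hfl' q hgq
        by_cases hpk : p ∈ k
        · exact ⟨k, hgk, hpk⟩
        obtain ⟨x, hxk, hgx⟩ : ∃ x : P, x ∈ k ∧ g • x = x := by
          by_contra hno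
          push_neg at hno
          have hoff : ∀ r : P, r ∉ k → g • r = r := by
            intro r hr
            by_contra hgr
            obtain ⟨k', hrk', hgk'⟩ := hfl' r hgr
            have hne : k' ≠ k := fun e => hr (e ▸ hrk')
            obtain ⟨x, hx, hx'⟩ := exists_meet (P := P) k' k hne
            exact hno x hx' (smul_point_eq hne hx hx' hgk' hgk)
          obtain ⟨r, hr, hrp⟩ : ∃ r : P, r ∈ l ∧ r ∉ ({p, q} : Set P) := by
            refine Set.exists_mem_notMem_of_ncard_lt_ncard (s := {p, q}) (t := {x : P | x ∈ l}) ?_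
            rw [ncard_line l]
            have h2 : ({p, q} : Set P).ncard ≤ 2 := by
              refine (Set.ncard_insert_le _ _).trans ?_
              rw [Set.ncard_singleton]
            omega
          simp only [Set.mem_insert_iff, Set.mem_singleton_iff, not_or] at hrp
          have hrk : r ∉ k := fun h => hrp.2
            (point_eq (fun e : l = k => hpk (e ▸ hl)) hr h hql hqk)
          exact hgl (smul_line_eq hrp.1 hr hl (hoff r hrk) hp)
        have hxp : x ≠ p := fun e => hpk (by rw [← e]; exact hxk)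
        obtain ⟨r, hr, hr'⟩ := exists_line_through (L := L) x p hxp
        exact ⟨r, smul_line_eq hxp hr hr' hgx hp, hr'⟩
      · obtain ⟨k, hk, hk'⟩ := exists_line_through (L := L) p (g • p) (Ne.symm hp)
        refine ⟨k, line_eq hp ((mem_smul g p k).2 hk) ?_ hk' hk, hk⟩
        rw [mem_smul', inv_eq_of_mul_eq_one_right hg]
        exact hk'
    have h2 := (Finset.card_le_card hcover).trans Finset.card_biUnion_le
    have h3 : ∀ l ∈ fl, (Finset.univ.filter fun p : P => p ∈ l).card = n + 1 := fun l _ => by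
      rw [hn', ← ncard_line (P := P) l, Set.ncard_eq_toFinset_card']
      congr 1; ext; simp
    rw [Finset.sum_congr rfl h3, Finset.sum_const, smul_eq_mul, hfl, Finset.card_univ,
      ← Nat.card_eq_fintype_card, card_points_eq (L := L), ← hn'] at h2
    by_contra hlt
    rw [not_le] at hlt
    have h4 : (fixedBy L g).ncard ≤ n := by omega
    have h5 := Nat.mul_le_mul_right (n + 1) h4
    nlinarith
  -- three collinear fixed points
  set S := fixedBy P g with hS
  obtain ⟨A, hA, B, hB, E, hE, a, hAa, hBa, hEa, hAB, hAE, hBE⟩ : ∃ A ∈ S, ∃ B ∈ S, ∃ E ∈ S, ∃ a : L,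
      A ∈ a ∧ B ∈ a ∧ E ∈ a ∧ A ≠ B ∧ A ≠ E ∧ B ≠ E := by
    by_contra hall
    push_neg at hall
    obtain ⟨A, hA, B, hB, C, hC, hAB, hAC, hBC⟩ :
        ∃ A ∈ S, ∃ B ∈ S, ∃ C ∈ S, A ≠ B ∧ A ≠ C ∧ B ≠ C :=
      (Set.two_lt_ncard (Set.toFinite S)).1 (by omega)
    obtain ⟨D, hD, hDn⟩ := Set.exists_mem_notMem_of_ncard_lt_ncard (s := {A, B, C}) (t := S) (by
      have h2 : ({A, B, C} : Set P).ncard ≤ 3 := by
        refine (Set.ncard_insert_le _ _).trans ?_
        refine Nat.succ_le_succ ((Set.ncard_insert_le _ _).trans ?_)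
        rw [Set.ncard_singleton]
      omega)
    simp only [Set.mem_insert_iff, Set.mem_singleton_iff, not_or] at hDn
    obtain ⟨hDA, hDB, hDC⟩ := hDn
    refine hq ⟨A, hA, B, hB, C, hC, D, hD, hAB, hAC, Ne.symm hDA, hBC, Ne.symm hDB, Ne.symm hDC,
      fun l ⟨h1, h2, h3⟩ => ?_, fun l ⟨h1, h2, h3⟩ => ?_, fun l ⟨h1, h2, h3⟩ => ?_,
      fun l ⟨h1, h2, h3⟩ => ?_⟩
    · exact hBC (hall A hA B hB C hC l h1 h2 h3 hAB hAC)
    · exact hDB (hall A hA B hB D hD l h1 h2 h3 hAB (Ne.symm hDA)).symm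
    · exact hDC (hall A hA C hC D hD l h1 h2 h3 hAC (Ne.symm hDA)).symm
    · exact hDC (hall B hB C hC D hD l h1 h2 h3 hBC (Ne.symm hDB)).symm
  have hga : g • a = a := smul_line_eq hAB hAa hBa hA hB
  refine ⟨a, fun p hp => ?_⟩
  by_contra hgp
  have hsub : ∀ C ∈ S, ∀ D ∈ S, C ∉ a → D ∉ a → C = D := fun C hC D hD hCa hDa =>
    subsingleton_off_line hq hA hB hE hAa hBa hEa hAB hAE hBE hC hD hCa hDa
  have hmoved : g • g • p = p := by rw [← mul_smul, hg, one_smul]
  have hgp' : g • p ∈ a := (mem_of_fix hga p).2 hp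
  have h3 : ((S ∩ {x | x ∈ a}) ∪ {p, g • p}).ncard ≤ n + 1 := by
    rw [hn', ← ncard_line (P := P) a]
    refine Set.ncard_le_ncard ?_
    rintro x (⟨-, hx⟩ | rfl | rfl)
    · exact hx
    · exact hp
    · exact hgp'
  rw [Set.ncard_union_eq ?_, Set.ncard_pair (Ne.symm hgp)] at h3
  · have h4 : (S \ {x | x ∈ a}).ncard ≤ 1 := Set.ncard_le_one_iff_subsingleton.2
      fun C hC D hD => hsub C hC.1 D hD.1 hC.2 hD.2
    have h5 := Set.ncard_inter_add_ncard_diff_eq_ncard S {x | x ∈ a} (Set.toFinite _)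
    omega
  · rw [Set.disjoint_left]
    rintro x ⟨hx, -⟩ (rfl | rfl)
    · exact hgp hx
    · exact hgp (by
        have : g • g • p = g • p := hx
        rw [hmoved] at this
        exact this.symm)

end CfsgLib.OW
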