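import Cfsg.Agent.OstromWagner.Odd
import Cfsg.Agent.OstromWagner.Col
import Mathlib.GroupTheory.Nilpotent

/-!
# The order of a plane whose two-transitive group has no perspectivities
-/

set_option autoImplicit false

namespace CfsgLib.OW

open Configuration MulAction

universe u v

instance subCompat {P L : Type*} [Membership P L] (H : Subgroup (Col P L)) : Compat H P L :=
  ⟨fun g p l => mem_smul (g : Col P L) p l⟩

theorem sub_faithful {P L : Type*} [Membership P L] [ProjectivePlane P L] (H : Subgroup (Col P L)) :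
    FaithfulSMul H P :=
  ⟨fun {g h} hgh => Subtype.ext ((col_faithful (P := P) (L := L)).eq_of_smul_eq_smul hgh)⟩

theorem eq_of_sq_add {a b : ℕ} (h : a ^ 2 + a + 1 = b ^ 2 + b + 1) : a = b := by
  rcases lt_trichotomy a b with h1 | h1 | h1
  · nlinarith
  · exact h1
  · nlinarith

/-- A subplane fixed by a group of collineations of two-power order. -/
theorem exists_pow_col : ∀ (k : ℕ) (P : Type u) (L : Type v) [Membership P L] [ProjectivePlane P L]
    [Finite P] [Finite L], ProjectivePlane.order P L = k → ∀ (H : Subgroup (Col P L)),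
      IsPGroup 2 H → HasQuad L (fixedPoints H P) → ∀ m : ℕ,
        (fixedPoints H P).ncard = m ^ 2 + m + 1 → ∃ j : ℕ, ProjectivePlane.order P L = m ^ j := by
  intro k
  induction k using Nat.strong_induction_on with
  | _ k ih =>
    intro P L _ _ _ _ hk H hH hq m hm
    haveI := Fact.mk Nat.prime_two
    haveI : FaithfulSMul (Col P L) P := col_faithful
    rcases subsingleton_or_nontrivial H with hsub | hnt
    · refine ⟨1, ?_⟩
      rw [pow_one]
      refine eq_of_sq_add ?_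
      rw [← card_points_eq (L := L), ← hm, ← Set.ncard_univ]
      congr 1
      exact (Set.eq_univ_of_forall fun x u => by rw [Subsingleton.elim u 1, one_smul]).symm
    haveI := hH.center_nontrivial
    obtain ⟨c, hc⟩ := exists_prime_orderOf_dvd_card' 2
      ((hH.to_subgroup (Subgroup.center H)).card_eq_or_dvd.resolve_left Finite.one_lt_card.ne')
    set t : Col P L := ((c : H) : Col P L) with ht
    have hot : orderOf t = 2 := by rw [ht, Subgroup.orderOf_coe, Subgroup.orderOf_coe, hc]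
    have ht2 : t * t = 1 := by rw [← pow_two, ← hot]; exact pow_orderOf_eq_one t
    have ht1 : t ≠ 1 := fun e => by rw [e, orderOf_one] at hot; omega
    have htH : t ∈ H := (c : H).2
    obtain ⟨M, hM, hMc⟩ := baer ht2 ht1 (hq.mono fun x hx => hx ⟨t, htH⟩)
    set R : Subgroup (Col P L) := Subgroup.zpowers t with hR
    have hcomm : ∀ u ∈ H, u * t = t * u := fun u hu =>
      congrArg Subtype.val (Subgroup.mem_center_iff.1 c.2 ⟨u, hu⟩)
    have hHN : H ≤ Subgroup.normalizer (R : Set (Col P L)) := by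
      intro u hu
      refine Subgroup.mem_normalizer_iff.2 fun x => ?_
      have hcu : ∀ i : ℤ, u * t ^ i * u⁻¹ = t ^ i := fun i => by
        rw [((show Commute u t from hcomm u hu).zpow_right i).eq, mul_inv_cancel_right]
      constructor
      · rintro hx
        obtain ⟨i, rfl⟩ := Subgroup.mem_zpowers_iff.1 hx
        exact Subgroup.mem_zpowers_iff.2 ⟨i, (hcu i).symm⟩
      · intro hx
        obtain ⟨i, hi⟩ := Subgroup.mem_zpowers_iff.1 hx
        refine Subgroup.mem_zpowers_iff.2 ⟨i, ?_⟩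
        rw [← hcu i] at hi
        exact mul_left_cancel (mul_right_cancel hi)
    have hFix : fixedPoints R P = fixedBy P t := fixedPoints_zpowers t
    have hsubR : fixedPoints H P ⊆ fixedPoints R P := fun x hx => by
      rw [hFix]; exact hx ⟨t, htH⟩
    have hqR : HasQuad L (fixedPoints R P) := hq.mono hsubR
    letI := subPlane R hqR
    have hM' : ProjectivePlane.order (fixedPoints R P) (fixedPoints R L) = M := by
      refine eq_of_sq_add ?_
      rw [← card_points_eq (L := fixedPoints R L), ← hMc, Nat.card_coe_set_eq, hFix]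
    set H' : Subgroup (Col (fixedPoints R P) (fixedPoints R L)) :=
      (H.subgroupOf (Subgroup.normalizer (R : Set (Col P L)))).map (fixHom (Col P L) P L R) with hH'
    have hfix' : ∀ x : fixedPoints R P, x ∈ fixedPoints H' (fixedPoints R P) ↔
        (x : P) ∈ fixedPoints H P := by
      intro x
      constructor
      · rintro hx ⟨u, hu⟩
        exact congrArg Subtype.val (hx ⟨_, Subgroup.mem_map_of_mem _
          (show (⟨u, hHN hu⟩ : Subgroup.normalizer (R : Set (Col P L))) ∈ H.subgroupOf _ from hu)⟩)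
      · rintro hx ⟨-, ⟨u, hu⟩, hu', rfl⟩
        exact Subtype.ext (hx ⟨u, hu'⟩)
    have hq' : HasQuad (fixedPoints R L) (fixedPoints H' (fixedPoints R P)) := by
      obtain ⟨A, hA, B, hB, C, hC, D, hD, hAB, hAC, hAD, hBC, hBD, hCD, h1, h2, h3, h4⟩ := hq
      exact ⟨⟨A, hsubR hA⟩, (hfix' _).2 hA, ⟨B, hsubR hB⟩, (hfix' _).2 hB, ⟨C, hsubR hC⟩,
        (hfix' _).2 hC, ⟨D, hsubR hD⟩, (hfix' _).2 hD, fun e => hAB (congrArg Subtype.val e),
        fun e => hAC (congrArg Subtype.val e), fun e => hAD (congrArg Subtype.val e),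
        fun e => hBC (congrArg Subtype.val e), fun e => hBD (congrArg Subtype.val e),
        fun e => hCD (congrArg Subtype.val e), fun l => h1 l, fun l => h2 l, fun l => h3 l,
        fun l => h4 l⟩
    have hm' : (fixedPoints H' (fixedPoints R P)).ncard = m ^ 2 + m + 1 := by
      rw [← hm, ← Set.ncard_image_of_injective _ Subtype.val_injective]
      congr 1
      ext x
      exact ⟨fun ⟨y, hy, e⟩ => e ▸ (hfix' y).1 hy, fun hx => ⟨⟨x, hsubR hx⟩, (hfix' _).2 hx, rfl⟩⟩
    have hH'p : IsPGroup 2 H' := (hH.comap_subtype).map _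
    have hlt : M < k := by
      have := ProjectivePlane.one_lt_order P L
      rw [← hk, hM]
      nlinarith
    obtain ⟨j, hj⟩ := ih M hlt _ _ hM' H' hH'p hq' m hm'
    rw [hM'] at hj
    exact ⟨j * 2, by rw [hM, hj, ← pow_mul]⟩

/-- In a finite group an element mapping a subgroup into itself normalises it. -/
theorem mem_normalizer_of_forall {G : Type*} [Group G] [Finite G] {Q : Subgroup G} {g : G}
    (h : ∀ q ∈ Q, g * q * g⁻¹ ∈ Q) : g ∈ Subgroup.normalizer (Q : Set G) := by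
  refine Subgroup.mem_normalizer_iff.2 fun x => ⟨h x, fun hx => ?_⟩
  have hsurj := Finite.injective_iff_surjective.1
    (show Function.Injective (fun q : Q => (⟨g * q * g⁻¹, h q q.2⟩ : Q)) from fun a b e =>
      Subtype.ext (mul_left_cancel (mul_right_cancel (congrArg Subtype.val e))))
  obtain ⟨⟨y, hy⟩, hyx⟩ := hsurj ⟨_, hx⟩
  rwa [← mul_left_cancel (mul_right_cancel (congrArg Subtype.val hyx))]

/-- A two-element outside a subgroup has a power outside it with square inside. -/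
theorem exists_sq_mem {G : Type*} [Group G] {Q : Subgroup G} {h : G} {k : ℕ} (hk : h ^ 2 ^ k = 1)
    (hh : h ∉ Q) : ∃ i, h ^ 2 ^ i ∉ Q ∧ h ^ 2 ^ i * h ^ 2 ^ i ∈ Q := by
  classical
  have hex : ∃ i, h ^ 2 ^ i ∈ Q := ⟨k, by rw [hk]; exact one_mem Q⟩
  obtain ⟨i, hi⟩ : ∃ i, Nat.find hex = i + 1 := by
    refine Nat.exists_eq_succ_of_ne_zero fun e => hh ?_
    have := Nat.find_spec hex
    rwa [e, pow_zero, pow_one] at this
  refine ⟨i, Nat.find_min hex (by omega), ?_⟩
  rw [← pow_add, ← two_mul, ← pow_succ', ← hi]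
  exact Nat.find_spec hex

/-- The two-part of an element. -/
theorem exists_odd_pow {G : Type*} [Group G] [Finite G] (h : G) :
    ∃ r : ℕ, Odd r ∧ ∃ k : ℕ, (h ^ r) ^ 2 ^ k = 1 := by
  refine ⟨orderOf h / 2 ^ (orderOf h).factorization 2, ?_, (orderOf h).factorization 2, ?_⟩
  · rw [← Nat.not_even_iff_odd, even_iff_two_dvd]
    exact Nat.not_dvd_ordCompl Nat.prime_two (orderOf_pos h).ne'
  · rw [← pow_mul, mul_comm, Nat.ordProj_mul_ordCompl_eq_self, pow_orderOf_eq_one]

/-- Every pair fixed by a two-group is fixed by an element of its normaliser squaring into it. -/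
theorem exists_pair_element {G X : Type*} [Group G] [Finite G] [MulAction G X] (Q : Subgroup G)
    (hQ : IsPGroup 2 Q) (h2 : ∀ x y x' y' : X, x ≠ y → x' ≠ y' → ∃ g : G, g • x = x' ∧ g • y = y')
    (hinv : ∀ h ∈ Subgroup.normalizer (Q : Set G), h ∉ Q → h * h ∈ Q → ∃ C D : X, C ≠ D ∧
      C ∈ fixedPoints Q X ∧ D ∈ fixedPoints Q X ∧ h • C = C ∧ h • D = D)
    {A B : X} (hAB : A ≠ B) (hA : A ∈ fixedPoints Q X) (hB : B ∈ fixedPoints Q X) :
    ∃ h ∈ Subgroup.normalizer (Q : Set G), h ∉ Q ∧ h * h ∈ Q ∧ h • A = A ∧ h • B = B := by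
  classical
  haveI := Fact.mk Nat.prime_two
  haveI : Finite (Sylow 2 G) := inferInstance
  have hstab : ∀ {C D : X}, C ∈ fixedPoints Q X → D ∈ fixedPoints Q X →
      Q ≤ stabilizer G (C, D) := fun hC hD q hq => Prod.ext (hC ⟨q, hq⟩) (hD ⟨q, hq⟩)
  obtain ⟨T, hT⟩ := (hQ.comap_subtype (K := stabilizer G (A, B))).exists_le_sylow
  by_cases hne : Q.subgroupOf (stabilizer G (A, B)) = T
  swap
  · haveI := T.2.isNilpotent
    have hlt : (Q.subgroupOf (stabilizer G (A, B))).subgroupOf T < ⊤ := by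
      rw [lt_top_iff_ne_top, Ne, Subgroup.subgroupOf_eq_top]
      exact fun h => hne (le_antisymm hT h)
    obtain ⟨w, hwN, hwQ⟩ :=
      SetLike.exists_of_lt (Group.normalizerCondition_of_isNilpotent _ hlt)
    set w' : G := ((w : stabilizer G (A, B)) : G) with hw'
    have hwN' : w' ∈ Subgroup.normalizer (Q : Set G) := mem_normalizer_of_forall fun q hq =>
      (Subgroup.mem_normalizer_iff.1 hwN ⟨⟨q, hstab hA hB hq⟩, hT hq⟩).1 hq
    obtain ⟨k, hk⟩ := T.2 w
    obtain ⟨i, hi, hi'⟩ := exists_sq_mem (h := w') (k := k)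
      (congrArg (fun x : (T : Subgroup (stabilizer G (A, B))) => ((x : stabilizer G (A, B)) : G)) hk)
      hwQ
    have hfix : w' ^ 2 ^ i ∈ stabilizer G (A, B) :=
      pow_mem (show w' ∈ stabilizer G (A, B) from (w : stabilizer G (A, B)).2) _
    exact ⟨_, pow_mem hwN' _, hi, hi', congrArg Prod.fst hfix, congrArg Prod.snd hfix⟩
  have hcard : ∀ {C D : X}, C ≠ D → Nat.card (stabilizer G (C, D)) =
      Nat.card (stabilizer G (A, B)) := by
    intro C D hCD
    have h1 := Subgroup.card_mul_index (stabilizer G (C, D))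
    have h3 := Subgroup.card_mul_index (stabilizer G (A, B))
    obtain ⟨g, hgA, hgB⟩ := h2 A B C D hAB hCD
    have horb : orbit G (C, D) = orbit G (A, B) :=
      orbit_eq_iff.2 ⟨g, Prod.ext hgA hgB⟩
    rw [index_stabilizer, horb] at h1
    rw [index_stabilizer] at h3
    refine Nat.eq_of_mul_eq_mul_right ?_ (h1.trans h3.symm)
    rw [← index_stabilizer]
    exact Nat.pos_of_ne_zero Subgroup.index_ne_zero_of_finite
  have hQcard : ∀ {C D : X}, C ≠ D → Nat.card Q =
      2 ^ (Nat.card (stabilizer G (C, D))).factorization 2 := by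
    intro C D hCD
    rw [hcard hCD, ← T.card_eq_multiplicity, ← hne]
    exact (Nat.card_congr (Subgroup.subgroupOfEquivOfLe (hstab hA hB)).toEquiv).symm
  have htrans : ∀ C D E F : X, C ∈ fixedPoints Q X → D ∈ fixedPoints Q X → E ∈ fixedPoints Q X →
      F ∈ fixedPoints Q X → C ≠ D → E ≠ F →
      ∃ g ∈ Subgroup.normalizer (Q : Set G), g • C = E ∧ g • D = F := by
    intro C D E F hC hD hE hF hCD hEF
    obtain ⟨g, hgC, hgD⟩ := h2 C D E F hCD hEF
    set Q' : Subgroup G := Q.map (MulAut.conj g).toMonoidHom with hQ'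
    have hQ'le : Q' ≤ stabilizer G (E, F) := by
      rintro _ ⟨q, hq, rfl⟩
      change (g * q * g⁻¹) • (E, F) = (E, F)
      rw [mul_smul, mul_smul, inv_smul_eq_iff.2 (show (E, F) = g • (C, D) from
        Prod.ext hgC.symm hgD.symm), show q • (C, D) = (C, D) from hstab hC hD hq]
      exact Prod.ext hgC hgD
    have hQ'card : Nat.card Q' = Nat.card Q :=
      (Nat.card_congr (Q.equivMapOfInjective _ (MulAut.conj g).injective).toEquiv).symm
    let S₁ : Sylow 2 (stabilizer G (E, F)) := Sylow.ofCard (Q.subgroupOf (stabilizer G (E, F)))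
      ((Nat.card_congr (Subgroup.subgroupOfEquivOfLe (hstab hE hF)).toEquiv).trans (hQcard hEF))
    let S₂ : Sylow 2 (stabilizer G (E, F)) := Sylow.ofCard (Q'.subgroupOf (stabilizer G (E, F)))
      ((Nat.card_congr (Subgroup.subgroupOfEquivOfLe hQ'le).toEquiv).trans
        (hQ'card.trans (hQcard hEF)))
    obtain ⟨x, hx⟩ := MulAction.exists_smul_eq (stabilizer G (E, F)) S₂ S₁
    refine ⟨(x : G) * g, mem_normalizer_of_forall fun q hq => ?_, ?_, ?_⟩
    · have hmem : g * q * g⁻¹ ∈ Q' := ⟨q, hq, rfl⟩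
      have h1 : x * ⟨g * q * g⁻¹, hQ'le hmem⟩ * x⁻¹ ∈ (S₁ : Subgroup (stabilizer G (E, F))) := by
        rw [← hx, Sylow.coe_subgroup_smul]
        exact Subgroup.smul_mem_pointwise_smul _ (MulAut.conj x)
          (S₂ : Subgroup (stabilizer G (E, F))) hmem
      have h2' : (x : G) * (g * q * g⁻¹) * (x : G)⁻¹ ∈ Q := h1
      simpa [mul_assoc] using h2'
    · rw [mul_smul, hgC]; exact congrArg Prod.fst x.2
    · rw [mul_smul, hgD]; exact congrArg Prod.snd x.2
  -- an element interchanging the two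
  obtain ⟨s, hsN, hsA, hsB⟩ := htrans A B B A hA hB hB hA hAB hAB.symm
  obtain ⟨r, ⟨r', hr⟩, k, hk⟩ := exists_odd_pow s
  have hsr : (s ^ r) • A = B := by
    have h1 : (s * s) • A = A := by rw [mul_smul, hsA, hsB]
    have h3 : ∀ j : ℕ, (s * s) ^ j • A = A := by
      intro j
      induction j with
      | zero => rw [pow_zero, one_smul]
      | succ j ihj => rw [pow_succ, mul_smul, h1, ihj]
    rw [hr, pow_succ', pow_mul, pow_two, mul_smul, h3, hsA]
  obtain ⟨i, hi, hi'⟩ := exists_sq_mem hk (fun h => hAB ((hA ⟨_, h⟩).symm.trans hsr))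
  set h := (s ^ r) ^ 2 ^ i with hh
  obtain ⟨C, D, hCD, hC, hD, hhC, hhD⟩ := hinv h (pow_mem (pow_mem hsN _) _) hi hi'
  obtain ⟨g, hg, hgC, hgD⟩ := htrans C D A B hC hD hA hB hCD hAB
  refine ⟨g * h * g⁻¹, mul_mem (mul_mem hg (pow_mem (pow_mem hsN _) _)) (inv_mem hg),
    fun hm => hi ?_, ?_, ?_, ?_⟩
  · exact (Subgroup.mem_normalizer_iff.1 hg _).2 hm
  · rw [show g * h * g⁻¹ * (g * h * g⁻¹) = g * (h * h) * g⁻¹ by group]
    exact (Subgroup.mem_normalizer_iff.1 hg _).1 hi'
  · rw [mul_smul, mul_smul, inv_smul_eq_iff.2 hgC.symm, hhC, hgC]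
  · rw [mul_smul, mul_smul, inv_smul_eq_iff.2 hgD.symm, hhD, hgD]

variable {Γ : Type*} {P : Type u} {L : Type v} [Membership P L] [ProjectivePlane P L] [Finite P] [Finite L]
  [Group Γ] [MulAction Γ P] [MulAction Γ L] [Compat Γ P L] [FaithfulSMul Γ P] [Finite Γ]

/-- A plane with a two-transitive group without perspectivities has prime power order. -/
theorem isPrimePow_of_no_axis
    (h2 : ∀ x y x' y' : P, x ≠ y → x' ≠ y' → ∃ g : Γ, g • x = x' ∧ g • y = y')
    (h2L : ∀ x y x' y' : L, x ≠ y → x' ≠ y' → ∃ g : Γ, g • x = x' ∧ g • y = y')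
    (hno : ∀ g : Γ, g ≠ 1 → ∀ a : L, ¬ IsAxis (P := P) g a) :
    IsPrimePow (ProjectivePlane.order P L) := by
  classical
  haveI := Fact.mk Nat.prime_two
  set n := ProjectivePlane.order P L with hn
  have h1n : 1 < n := ProjectivePlane.one_lt_order P L
  by_cases hn2 : n = 2
  · rw [hn2]; exact Nat.prime_two.isPrimePow
  -- a maximal two-group with a fixed quadrangle
  haveI := Fintype.ofFinite (Subgroup Γ)
  obtain ⟨Q, hQmem, hQmax⟩ := Finset.exists_max_image
    (Finset.univ.filter fun Q : Subgroup Γ => IsPGroup 2 Q ∧ HasQuad L (fixedPoints Q P))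
    (fun Q => Nat.card Q) ⟨⊥, by simp [hasQuad_bot, IsPGroup.of_bot]⟩
  simp only [Finset.mem_filter, Finset.mem_univ, true_and] at hQmem hQmax
  obtain ⟨hQp, hQq⟩ := hQmem
  letI := subPlane Q hQq
  set m := ProjectivePlane.order (fixedPoints Q P) (fixedPoints Q L) with hm
  -- the order is a power of the order of the subplane
  obtain ⟨j, hj⟩ := exists_pow_col n P L rfl (Q.map (toCol Γ P L)) (hQp.map _) (by
    refine hQq.mono ?_
    rintro x hx ⟨-, q, hq, rfl⟩
    exact hx ⟨q, hq⟩) m (by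
    rw [show fixedPoints (Q.map (toCol Γ P L)) P = fixedPoints Q P from Set.ext fun x =>
      ⟨fun hx ⟨q, hq⟩ => hx ⟨_, q, hq, rfl⟩, by rintro hx ⟨-, q, hq, rfl⟩; exact hx ⟨q, hq⟩⟩,
      ← Nat.card_coe_set_eq, card_points_eq (L := fixedPoints Q L)])
  suffices hmpp : IsPrimePow m by
    rw [hn, hj]
    refine hmpp.pow fun e => ?_
    rw [e, pow_zero] at hj
    omega
  by_cases hm2 : m = 2
  · rw [hm2]; exact Nat.prime_two.isPrimePow
  have hm3 : 3 ≤ m := by
    have := ProjectivePlane.one_lt_order (fixedPoints Q P) (fixedPoints Q L)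
    omega
  set π := fixHom Γ P L Q with hπ
  haveI := col_faithful (P := fixedPoints Q P) (L := fixedPoints Q L)
  have hπQ : ∀ q (hq : q ∈ Q) (hN : q ∈ Subgroup.normalizer (Q : Set Γ)), π ⟨q, hN⟩ = 1 :=
    fun q hq hN => eq_of_smul_eq_smul (α := fixedPoints Q P) fun x => by
      rw [one_smul]
      exact Subtype.ext (x.2 ⟨q, hq⟩)
  -- elements squaring into `Q` give involutions without fixed quadrangle
  have key : ∀ h (hN : h ∈ Subgroup.normalizer (Q : Set Γ)), h ∉ Q → h * h ∈ Q →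
      π ⟨h, hN⟩ * π ⟨h, hN⟩ = 1 ∧ π ⟨h, hN⟩ ≠ 1 ∧
        ∃ a : fixedPoints Q L, IsAxis (P := fixedPoints Q P) (π ⟨h, hN⟩) a := by
    intro h hN hhQ hh2
    have hsq : π ⟨h, hN⟩ * π ⟨h, hN⟩ = 1 := by
      rw [← map_mul]
      exact hπQ (h * h) hh2 _
    have hnq : ¬ HasQuad (fixedPoints Q L) (fixedBy (fixedPoints Q P) (π ⟨h, hN⟩)) := by
      intro hquad
      obtain ⟨k, hk⟩ := IsPGroup.iff_card.1 hQp
      have hhp : IsPGroup 2 (Subgroup.zpowers h) := by
        refine IsPGroup.of_card_dvd_pow (n := k + 1) ?_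
        rw [Nat.card_zpowers]
        refine orderOf_dvd_iff_pow_eq_one.2 ?_
        rw [pow_succ', pow_mul, pow_two]
        have h1 : orderOf (h * h) ∣ 2 ^ k := by
          rw [← hk, ← Subgroup.orderOf_mk (h * h) hh2]
          exact orderOf_dvd_natCard _
        exact orderOf_dvd_iff_pow_eq_one.1 h1
      have hsup : IsPGroup 2 (Subgroup.zpowers h ⊔ Q : Subgroup Γ) :=
        hhp.to_sup_of_normal_right' hQp ((Subgroup.zpowers_le).2 hN)
      have hq2 : HasQuad L (fixedPoints (Subgroup.zpowers h ⊔ Q : Subgroup Γ) P) := by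
        refine (hasQuad_lift Q hquad).mono ?_
        rintro _ ⟨x, hx, rfl⟩ ⟨u, hu⟩
        have hle : Subgroup.zpowers h ⊔ Q ≤ stabilizer Γ (x : P) :=
          sup_le ((Subgroup.zpowers_le).2 (congrArg Subtype.val hx)) fun q hq => x.2 ⟨q, hq⟩
        exact hle hu
      have h1 := hQmax _ ⟨hsup, hq2⟩
      have h2 : Q = Subgroup.zpowers h ⊔ Q := Subgroup.eq_of_le_of_card_ge le_sup_right h1
      exact hhQ (h2 ▸ (le_sup_left : Subgroup.zpowers h ≤ Subgroup.zpowers h ⊔ Q)
        (Subgroup.mem_zpowers h))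
    refine ⟨hsq, fun e => hnq ?_, exists_axis_of_involution hsq hm3 hnq⟩
    rw [e]
    refine hasQuad_univ.mono fun x _ => ?_
    exact one_smul _ x
  have hinvP : ∀ h ∈ Subgroup.normalizer (Q : Set Γ), h ∉ Q → h * h ∈ Q → ∃ C D : P, C ≠ D ∧
      C ∈ fixedPoints Q P ∧ D ∈ fixedPoints Q P ∧ h • C = C ∧ h • D = D := by
    intro h hN hhQ hh2
    obtain ⟨-, -, a, ha⟩ := key h hN hhQ hh2
    obtain ⟨Z, hZ⟩ := Nondegenerate.exists_point (P := fixedPoints Q P) a
    obtain ⟨C, hC, -⟩ := exists_ne_on_line a Z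
    obtain ⟨D, hD, hDC⟩ := exists_ne_on_line a C
    exact ⟨C, D, fun e => hDC (Subtype.ext e.symm), C.2, D.2,
      congrArg Subtype.val (ha C hC), congrArg Subtype.val (ha D hD)⟩
  have hinvL : ∀ h ∈ Subgroup.normalizer (Q : Set Γ), h ∉ Q → h * h ∈ Q → ∃ C D : L, C ≠ D ∧
      C ∈ fixedPoints Q L ∧ D ∈ fixedPoints Q L ∧ h • C = C ∧ h • D = D := by
    intro h hN hhQ hh2
    obtain ⟨-, -, a, ha⟩ := key h hN hhQ hh2
    obtain ⟨Z, hZ⟩ := exists_centre ha
    obtain ⟨C, hC, -⟩ := exists_ne_in_pencil (L := fixedPoints Q L) Z a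
    obtain ⟨D, hD, hDC⟩ := exists_ne_in_pencil (L := fixedPoints Q L) Z C
    exact ⟨C, D, fun e => hDC (Subtype.ext e.symm), C.2, D.2,
      congrArg Subtype.val (hZ C hC), congrArg Subtype.val (hZ D hD)⟩
  haveI := sub_faithful π.range
  refine Pairs.isPrimePow (Γ := π.range) (P := fixedPoints Q P) (L := fixedPoints Q L)
    ⟨hm3, ?_, ?_, ?_⟩
  · rintro ⟨-, ⟨h, hN⟩, rfl⟩ hg h1
    have hg' : π ⟨h, hN⟩ * π ⟨h, hN⟩ = 1 := congrArg Subtype.val hg
    have hne : π ⟨h, hN⟩ ≠ 1 := fun e => h1 (Subtype.ext e)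
    obtain ⟨r, ⟨r', hr⟩, k, hk⟩ := exists_odd_pow h
    have himg : π ⟨h ^ r, pow_mem hN r⟩ = π ⟨h, hN⟩ := by
      rw [show (⟨h ^ r, pow_mem hN r⟩ : Subgroup.normalizer (Q : Set Γ)) = ⟨h, hN⟩ ^ r from rfl,
        map_pow, hr, pow_succ, pow_mul, pow_two, hg', one_pow, one_mul]
    have hnQ : h ^ r ∉ Q := fun e => hne (himg ▸ hπQ _ e _)
    by_cases h2Q : h ^ r * h ^ r ∈ Q
    · obtain ⟨-, -, a, ha⟩ := key _ (pow_mem hN r) hnQ h2Q
      rw [himg] at ha
      exact ⟨a, ha⟩
    · exfalso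
      have hk' : (h ^ r * h ^ r) ^ 2 ^ k = 1 := by
        rw [← pow_two, ← pow_mul, mul_comm, pow_mul, hk, one_pow]
      obtain ⟨i, hi, hi'⟩ := exists_sq_mem hk' h2Q
      have hN2 : h ^ r * h ^ r ∈ Subgroup.normalizer (Q : Set Γ) :=
        mul_mem (pow_mem hN r) (pow_mem hN r)
      refine (key _ (pow_mem hN2 _) hi hi').2.1 ?_
      rw [show (⟨(h ^ r * h ^ r) ^ 2 ^ i, pow_mem hN2 _⟩ : Subgroup.normalizer (Q : Set Γ)) =
        ((⟨h ^ r, pow_mem hN r⟩ : Subgroup.normalizer (Q : Set Γ)) * ⟨h ^ r, pow_mem hN r⟩) ^ 2 ^ i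
        from rfl, map_pow, map_mul, himg, hg', one_pow]
  · intro A B hAB
    obtain ⟨h, hN, hhQ, hh2, hA, hB⟩ := exists_pair_element Q hQp h2 hinvP
      (fun e => hAB (Subtype.ext e)) A.2 B.2
    obtain ⟨hsq, hne, -⟩ := key h hN hhQ hh2
    exact ⟨⟨π ⟨h, hN⟩, _, rfl⟩, Subtype.ext hsq, fun e => hne (congrArg Subtype.val e),
      Subtype.ext hA, Subtype.ext hB⟩
  · intro A B hAB
    obtain ⟨h, hN, hhQ, hh2, hA, hB⟩ := exists_pair_element Q hQp h2L hinvL
      (fun e => hAB (Subtype.ext e)) A.2 B.2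
    obtain ⟨hsq, hne, -⟩ := key h hN hhQ hh2
    exact ⟨⟨π ⟨h, hN⟩, _, rfl⟩, Subtype.ext hsq, fun e => hne (congrArg Subtype.val e),
      Subtype.ext hA, Subtype.ext hB⟩

end CfsgLib.OW
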