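import Cfsg.Agent.OstromWagner.Sylow
import Cfsg.Agent.OstromWagner.Prime
import Cfsg.Agent.ItoDesign.Start

/-!
# The Ostrom–Wagner theorem
-/

set_option autoImplicit false

namespace CfsgLib.OW

open Configuration MulAction Projectivization CfsgLib.ItoDesign
open scoped LinearAlgebra.Projectivization

theorem submodule_le_iff {F : Type*} [Field F] {k : ℕ} (p : ℙ F (Fin k → F))
    (W : Submodule F (Fin k → F)) : p.submodule ≤ W ↔ p.rep ∈ W := by
  rw [Projectivization.submodule_eq, Submodule.span_singleton_le_iff_mem]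

/-- A two-transitive finite projective plane has coordinates in a finite field. -/
theorem ostrom_wagner {P L : Type*} [Membership P L] [Finite P] [Finite L] [ProjectivePlane P L]
    (h2t : ∀ p₁ p₂ q₁ q₂ : P, p₁ ≠ p₂ → q₁ ≠ q₂ →
      ∃ (σ : Equiv.Perm P) (τ : Equiv.Perm L),
        (∀ (p : P) (l : L), σ p ∈ τ l ↔ p ∈ l) ∧ σ p₁ = q₁ ∧ σ p₂ = q₂) :
    ∃ (F : Type) (_ : Field F) (_ : Fintype F) (φ : P ≃ ℙ F (Fin 3 → F)),
      (∀ l : L, ∃ W : Submodule F (Fin 3 → F), Module.finrank F W = 2 ∧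
          ∀ p : P, p ∈ l ↔ (φ p).submodule ≤ W) ∧
      (∀ W : Submodule F (Fin 3 → F), Module.finrank F W = 2 →
          ∃ l : L, ∀ p : P, p ∈ l ↔ (φ p).submodule ≤ W) := by
  classical
  haveI : FaithfulSMul (Col P L) P := col_faithful
  have h2 : ∀ x y x' y' : P, x ≠ y → x' ≠ y' → ∃ g : Col P L, g • x = x' ∧ g • y = y' := by
    intro x y x' y' hxy hxy'
    obtain ⟨σ, τ, h, h1, h2⟩ := h2t x y x' y' hxy hxy'
    exact ⟨⟨(σ, τ), h⟩, h1, h2⟩
  obtain ⟨D, hD⟩ := exists_planeDesign (Γ := Col P L) (L := L) h2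
  have hmem : ∀ (l : L) (p : P), p ∈ D.pts l ↔ p ∈ l := fun l p => by rw [hD]; exact Iff.rfl
  obtain ⟨g, hg, a, ha⟩ : ∃ g : Col P L, g ≠ 1 ∧ ∃ a : L, IsAxis (P := P) g a := by
    by_contra hno
    have hno' : ∀ g : Col P L, g ≠ 1 → ∀ a : L, ¬ IsAxis (P := P) g a :=
      fun g hg a ha => hno ⟨g, hg, a, ha⟩
    refine hno (exists_axis_of_isPrimePow (fun x C x' C' hiff => D.flag x C x' C' ?_)
      (isPrimePow_of_no_axis h2 D.two_blk hno'))
    rw [hmem, hmem]
    exact hiff
  obtain ⟨T₀, hnorm, hfix, hsemi, hne⟩ :=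
    exists_semireg (D := D) a g hg (fun x hx => ha x ((hmem a x).1 hx))
  obtain ⟨A⟩ := exists_axial (D := D) a T₀ hnorm hfix hsemi hne
  obtain ⟨F, iF, iFi, m, e, blk, hm, -, hinc⟩ := A.exists_projective a
  have hinc' : ∀ (l : L) p, e p ∈ l ↔ Inc (blk l) p := fun l p => by rw [← hmem, hinc]
  obtain rfl : m = 2 := by
    refine le_antisymm ?_ hm
    by_contra hm3
    obtain ⟨l, l', hll⟩ : ∃ l l' : L, l ≠ l' := by
      obtain ⟨l', h⟩ := D.exists_ne_blk a
      exact ⟨l', a, h⟩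
    let f : (Fin (m + 1) → F) →ₗ[F] F × F :=
      { toFun := fun v => ((blk l).rep ⬝ᵥ v, (blk l').rep ⬝ᵥ v)
        map_add' := fun v w => by simp [dotProduct_add]
        map_smul' := fun c v => by simp [dotProduct_smul] }
    have h1 := f.finrank_range_add_finrank_ker
    rw [Module.finrank_pi, Fintype.card_fin] at h1
    have h2 : Module.finrank F (LinearMap.range f) ≤ 2 := by
      refine (Submodule.finrank_le _).trans ?_
      rw [Module.finrank_prod, Module.finrank_self]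
    obtain ⟨u, hu⟩ : ∃ u : LinearMap.ker f, u ≠ 0 := by
      haveI : Nontrivial (LinearMap.ker f) := Module.nontrivial_of_finrank_pos (R := F) (by omega)
      exact exists_ne 0
    obtain ⟨w, hw, hwu⟩ : ∃ w ∈ LinearMap.ker f, w ∉ F ∙ (u : Fin (m + 1) → F) := by
      by_contra hall
      push_neg at hall
      have h3 := Submodule.finrank_mono (show LinearMap.ker f ≤ F ∙ (u : Fin (m + 1) → F) from hall)
      rw [finrank_span_singleton (show (u : Fin (m + 1) → F) ≠ 0 from
        fun e => hu (Subtype.ext e))] at h3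
      omega
    have hu0 : (u : Fin (m + 1) → F) ≠ 0 := fun e => hu (Subtype.ext e)
    have hw0 : w ≠ 0 := fun e => hwu (e ▸ Submodule.zero_mem _)
    have hin : ∀ v : Fin (m + 1) → F, ∀ hv : v ≠ 0, v ∈ LinearMap.ker f →
        e (mk F v hv) ∈ l ∧ e (mk F v hv) ∈ l' := by
      intro v hv hvk
      have h3 : ((blk l).rep ⬝ᵥ v, (blk l').rep ⬝ᵥ v) = (0, 0) := hvk
      rw [Prod.mk.injEq] at h3
      constructor
      · rw [hinc', ← mk_rep (blk l), inc_mk (rep_nonzero _) hv]; exact h3.1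
      · rw [hinc', ← mk_rep (blk l'), inc_mk (rep_nonzero _) hv]; exact h3.2
    have h4 := e.injective (point_eq hll (hin _ hu0 u.2).1 (hin _ hu0 u.2).2 (hin w hw0 hw).1
      (hin w hw0 hw).2)
    rw [mk_eq_mk_iff'] at h4
    obtain ⟨c, hc⟩ := h4
    refine hwu (Submodule.mem_span_singleton.2 ⟨c⁻¹, ?_⟩)
    have hc0 : c ≠ 0 := fun h => hu0 (by rw [← hc, h, zero_smul])
    rw [← hc, inv_smul_smul₀ hc0]
  let dual : (Fin 3 → F) → Submodule F (Fin 3 → F) := fun c =>
    LinearMap.ker (dotProductBilin F F c)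
  have hdual : ∀ c v, v ∈ dual c ↔ c ⬝ᵥ v = 0 := fun c v => Iff.rfl
  have hrank : ∀ c : Fin 3 → F, c ≠ 0 → Module.finrank F (dual c) = 2 := by
    intro c hc
    have h1 := (dotProductBilin F F c).finrank_range_add_finrank_ker
    have h2 : LinearMap.range (dotProductBilin F F c) = ⊤ := by
      refine LinearMap.range_eq_top.2 (LinearMap.surjective ?_)
      intro h
      exact hc (dotProduct_eq_zero _ fun v => LinearMap.congr_fun h v)
    rw [h2, finrank_top, Module.finrank_self, Module.finrank_pi, Fintype.card_fin] at h1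
    change _ + Module.finrank F (dual c) = _ at h1
    omega
  have hline : ∀ (l : L) (p : P), p ∈ l ↔ (e.symm p).submodule ≤ dual (blk l).rep := by
    intro l p
    rw [submodule_le_iff, hdual]
    conv_lhs => rw [← e.apply_symm_apply p]
    exact hinc' l _
  refine ⟨F, iF, iFi, e.symm, fun l => ⟨dual (blk l).rep, hrank _ (rep_nonzero _), hline l⟩,
    fun W hW => ?_⟩
  obtain ⟨c, hc0, hcW⟩ : ∃ c : Fin 3 → F, c ≠ 0 ∧ W ≤ dual c := by
    have hbij := Module.finrank_pos_iff_exists_ne_zero (R := F) (M := W.dualAnnihilator)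
    have h1 := Subspace.finrank_add_finrank_dualAnnihilator_eq W
    rw [hW, Module.finrank_pi, Fintype.card_fin] at h1
    obtain ⟨φ, hφ⟩ := hbij.1 (by omega)
    obtain ⟨c, hc⟩ := (dotProductEquiv F (Fin 3)).surjective φ
    refine ⟨c, fun h => hφ (Subtype.ext ?_), fun v hv => ?_⟩
    · rw [← hc, h, map_zero]; rfl
    · have h2 := (Submodule.mem_dualAnnihilator _).1 φ.2 v hv
      rw [← hc] at h2
      exact h2
  obtain ⟨l, hl⟩ := blk.surjective (mk F c hc0)
  refine ⟨l, fun p => ?_⟩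
  have hWc : W = dual c :=
    Submodule.eq_of_le_of_finrank_eq hcW (hW.trans (hrank c hc0).symm)
  rw [submodule_le_iff, hWc, hdual]
  conv_lhs => rw [← e.apply_symm_apply p, hinc', hl, ← mk_rep (e.symm p)]
  exact inc_mk hc0 (rep_nonzero _)

end CfsgLib.OW
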