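import Cfsg.Agent.OstromWagner.Homology

/-!
# Groups with involutory homologies for all pairs of points and lines
-/

set_option autoImplicit false

namespace CfsgLib.OW

open Configuration MulAction

variable {Γ P L : Type*} [Membership P L] [ProjectivePlane P L] [Finite P] [Finite L] [Group Γ]
  [MulAction Γ P] [MulAction Γ L] [Compat Γ P L] [FaithfulSMul Γ P] [Finite Γ]

/-- The point is the centre of an elation with the given axis. -/
def Trans (Γ : Type*) [Group Γ] [MulAction Γ P] [MulAction Γ L] [Compat Γ P L] (Z : P) (a : L) : Prop :=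
  Z ∈ a ∧ persp Γ Z a ≠ ⊥

/-- Every line carrying an elation is the axis of an involutory homology. -/
def AxisHom (Γ P L : Type*) [Membership P L] [Group Γ] [MulAction Γ P] [MulAction Γ L]
    [Compat Γ P L] : Prop :=
  ∀ (Z : P) (a : L), Trans Γ Z a → ∃ C : P, Inv Γ C a

/-- Every centre of an elation is the centre of an involutory homology. -/
def CentreHom (Γ P L : Type*) [Membership P L] [Group Γ] [MulAction Γ P] [MulAction Γ L]
    [Compat Γ P L] : Prop :=
  ∀ (Z : P) (a : L), Trans Γ Z a → ∃ z : L, Inv Γ Z z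

omit [Finite Γ] in
theorem exists_avoid_two (l : L) (A B : P) : ∃ E : P, E ∈ l ∧ E ≠ A ∧ E ≠ B := by
  by_contra hne
  push_neg at hne
  have hsub : {x : P | x ∈ l} ⊆ {A, B} := fun x hx => by
    by_cases hxA : x = A
    · exact Or.inl hxA
    · exact Or.inr (hne x hx hxA)
  have := Set.ncard_le_ncard hsub
  rw [ncard_line l] at this
  have h2 : ({A, B} : Set P).ncard ≤ 2 := by
    refine (Set.ncard_insert_le _ _).trans ?_
    rw [Set.ncard_singleton]
  have := ProjectivePlane.one_lt_order P L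
  omega

theorem trans_smul {Z : P} {a : L} (h : Trans Γ Z a) (g : Γ) : Trans Γ (g • Z) (g • a) := by
  refine ⟨(mem_smul g Z a).2 h.1, fun e => h.2 (Subgroup.eq_bot_iff_forall _ |>.2 fun t ht => ?_)⟩
  have := conj_persp g ht
  rw [e, Subgroup.mem_bot, mul_inv_eq_one, mul_eq_left] at this
  exact this

theorem Pairs.line_transitive (H : Pairs Γ P L) {a : L} (hX : ∀ C : P, ¬ Inv Γ C a) {A B : P}
    (hA : A ∈ a) (hB : B ∈ a) : ∃ g : Γ, g • a = a ∧ g • A = B := by
  have := transitive_of_pairs (stabilizer Γ a) {p : P | p ∈ a} ?_ ?_ ?_ (x := A) (y := B) hA hB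
  · obtain ⟨g, hg, hgA⟩ := this
    exact ⟨g, hg, hgA⟩
  · rw [ncard_line a]
    have := H.three
    omega
  · intro x hx y hy hxy
    obtain ⟨g, hg, h1, hgx, hgy⟩ := H.pts x y hxy
    obtain ⟨C, b, hgb⟩ := H.flag hg h1
    have hba : b ≠ a := by
      rintro rfl
      exact hX C ⟨g, hg, h1, hgb⟩
    refine ⟨g, smul_line_eq hxy hx hy hgx hgy, hg, hgx, hgy, fun z hz hgz => ?_⟩
    by_contra hne
    push_neg at hne
    rcases fixed_point h1 hgb.1 hgb.2 hgx with hxb | rfl <;>
      rcases fixed_point h1 hgb.1 hgb.2 hgy with hyb | hyC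
    · exact hba (line_eq hxy hxb hyb hx hy)
    · subst hyC
      rcases fixed_point h1 hgb.1 hgb.2 hgz with hzb | rfl
      · exact hba (line_eq hne.1.symm hxb hzb hx hz)
      · exact hne.2 rfl
    · rcases fixed_point h1 hgb.1 hgb.2 hgz with hzb | rfl
      · exact hba (line_eq hne.2.symm hyb hzb hy hz)
      · exact hne.1 rfl
    · exact hxy hyC.symm
  · intro g hg x hx
    exact (mem_of_fix hg x).2 hx

/-- A line with elations which is the axis of no homology gives a prime power order. -/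
theorem Pairs.noHom (H : Pairs Γ P L) {Z : P} {a : L} (hZ : Trans Γ Z a) (hX : ∀ C : P, ¬ Inv Γ C a) :
    IsPrimePow (ProjectivePlane.order P L) := by
  refine isPrimePow_of_equal (Γ := Γ) (P := P) (a := a) (h := Nat.card (persp Γ Z a)) ?_ fun W hW => ?_
  · exact (Subgroup.one_lt_card_iff_ne_bot _).2 hZ.2
  · obtain ⟨g, hga, hgZ⟩ := H.line_transitive hX hZ.1 hW
    conv_lhs => rw [← hgZ, ← hga]
    exact persp_card_conj g Z a

/-- A line with two centres of elations gives a prime power order. -/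
theorem Pairs.odd_multi (H : Pairs Γ P L) (ho : ¬ Even (ProjectivePlane.order P L))
    (hAx : AxisHom Γ P L) (hCe : CentreHom Γ P L) {a : L} {Y Z : P} (hYZ : Y ≠ Z)
    (hY : Trans Γ Y a) (hZ : Trans Γ Z a) : IsPrimePow (ProjectivePlane.order P L) := by
  classical
  set n := ProjectivePlane.order P L with hn
  set T := elations Γ P a with hTdef
  obtain ⟨C0, hC0⟩ := hAx Y a hY
  have hC0a := H.inv_notMem ho hC0
  obtain ⟨h0, hh0, hh01, hp0⟩ := hC0
  have hcomm : ∀ s ∈ T, ∀ t ∈ T, s * t = t * s := fun s hs t ht =>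
    elations_comm hh0 hh01 (show h0 ∈ persp Γ C0 a from hp0) hC0a hs ht
  have hodd : Odd (Nat.card T) :=
    elations_odd hh0 hh01 (show h0 ∈ persp Γ C0 a from hp0) hC0a
  -- a homology fixing `a` with centre on it splits the elations
  have hsplit : ∀ (g : Γ), g * g = 1 → g ≠ 1 → ∀ (W : P) (w : L), g ∈ persp Γ W w → W ∈ a →
      ∀ W' : P, W' ∈ a → W' ∈ w →
        ∀ t ∈ T, ∃ u ∈ persp Γ W a, ∃ v ∈ persp Γ W' a, t = u * v := by
    intro g hg h1 W w hgp hWa W' hW'a hW'w
    have hWw : W ∉ w := fun h => ho ((centre_mem_iff_even hg h1 hgp).1 h)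
    have haw : a ≠ w := fun e => hWw (e ▸ hWa)
    refine elations_decomp (hgp.2 a hWa) (fun X hXa hgX => ?_) hcomm hodd hg
    rcases fixed_point h1 hgp.1 hgp.2 hgX with hXw | rfl
    · exact Or.inr (point_eq haw hXa hXw hW'a hW'w)
    · exact Or.inl rfl
  have hsingle : ∀ W : P, (∀ t ∈ T, t ∈ persp Γ W a) → False := by
    intro W hall
    obtain ⟨⟨s, hs⟩, hs1⟩ := Subgroup.ne_bot_iff_exists_ne_one.1 hY.2
    obtain ⟨⟨t, ht⟩, ht1⟩ := Subgroup.ne_bot_iff_exists_ne_one.1 hZ.2
    have h1 : Y = W := centre_unique (fun e => hs1 (Subtype.ext e)) hs.2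
      (hall s (persp_le_elations hY.1 hs)).2
    have h2 : Z = W := centre_unique (fun e => ht1 (Subtype.ext e)) ht.2
      (hall t (persp_le_elations hZ.1 ht)).2
    exact hYZ (h1.trans h2.symm)
  by_cases hclass : ∃ W : P, W ∈ a ∧ ∀ w : L, ¬ Inv Γ W w
  · obtain ⟨W, hWa, hW⟩ := hclass
    have hWbot : persp Γ W a = ⊥ := by
      by_contra h
      obtain ⟨w, hw⟩ := hCe W a ⟨hWa, h⟩
      exact hW w hw
    let cls : Set L := {l | W ∈ l ∧ l ≠ a}
    have hcover : ∀ l ∈ cls, ∃ C : P, C ∈ l ∧ Inv Γ C a := by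
      rintro l ⟨hWl, hla⟩
      obtain ⟨g, hg, h1, hga, hgl⟩ := H.lines a l (Ne.symm hla)
      obtain ⟨C, b, hgb⟩ := H.flag hg h1
      have hI : Inv Γ C b := ⟨g, hg, h1, hgb⟩
      have hCb := H.inv_notMem ho hI
      rcases fixed_line h1 hgb.1 hgb.2 hga with hCa | rfl
      · rcases fixed_line h1 hgb.1 hgb.2 hgl with hCl | rfl
        · exact absurd (point_eq hla hCl hCa hWl hWa ▸ hI) (hW b)
        · exfalso
          refine hsingle C fun t ht => ?_
          obtain ⟨u, hu, v, hv, rfl⟩ := hsplit g hg h1 C l hgb hCa W hWa hWl t ht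
          rw [hWbot, Subgroup.mem_bot] at hv
          rwa [hv, mul_one]
      · rcases fixed_line h1 hgb.1 hgb.2 hgl with hCl | e
        · exact ⟨C, hCl, hI⟩
        · exact absurd e hla
    have hfree : ∀ t ∈ T, ∀ l ∈ cls, t • l = l → t = 1 := by
      intro t ht l hl htl
      have := mem_persp_of_fixed_line ht hWa hl.1 hl.2 htl
      rwa [hWbot, Subgroup.mem_bot] at this
    have hinv : ∀ t ∈ T, ∀ l ∈ cls, t • l ∈ cls := by
      intro t ht l hl
      refine ⟨?_, fun e => hl.2 (MulAction.injective t (e.trans (axis_fixed ht.1).symm))⟩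
      have := (mem_smul t W l).2 hl.1
      rwa [ht.1 W hWa] at this
    have hdvd := card_dvd_of_free (X := L) T cls hinv hfree
    have hcls : cls.ncard = n := by
      rw [show cls = {l : L | W ∈ l} \ {a} by ext; simp [cls],
        Set.ncard_diff_singleton_of_mem (show a ∈ {l : L | W ∈ l} from hWa), ncard_pencil W]
      rfl
    obtain ⟨l0, hl0, hl0a⟩ := exists_ne_in_pencil (L := L) W a
    obtain ⟨C1, hC1l, hC1⟩ := hcover l0 ⟨hl0, hl0a⟩
    have hle : cls.ncard ≤ Nat.card T := by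
      rw [← Nat.card_coe_set_eq]
      have hex : ∀ l : cls, ∃ t : T, (t : Γ) • l0 = l := by
        rintro ⟨l, hl⟩
        obtain ⟨C, hCl, hC⟩ := hcover l hl
        obtain ⟨s, hs, hsC⟩ := exists_elation_smul hC1 hC (H.inv_notMem ho hC1) (H.inv_notMem ho hC)
        refine ⟨⟨s, hs⟩, line_eq (A := W) (B := C) ?_ ((hinv s hs l0 ⟨hl0, hl0a⟩).1) ?_ hl.1 hCl⟩
        · exact fun e => H.inv_notMem ho hC (e ▸ hWa)
        · rw [← hsC]; exact (mem_smul s C1 l0).2 hC1l
      choose f hf using hex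
      exact Nat.card_le_card_of_injective f fun x y e => Subtype.ext (by rw [← hf x, ← hf y, e])
    have heq : Nat.card T = n := by
      refine le_antisymm (Nat.le_of_dvd ?_ (hcls ▸ hdvd)) (hcls ▸ hle)
      have := H.three
      omega
    exact isPrimePow_of_full hY.1 hZ.1 hYZ hY.2 hZ.2 T le_rfl heq
  · push_neg at hclass
    have hpart : ∀ W : P, W ∈ a → ∃ W' : P, W' ∈ a ∧ W' ≠ W ∧
        Nat.card T = Nat.card (persp Γ W a) * Nat.card (persp Γ W' a) := by
      intro W hWa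
      obtain ⟨w, g, hg, h1, hgp⟩ := hclass W hWa
      have hWw : W ∉ w := H.inv_notMem ho ⟨g, hg, h1, hgp⟩
      have haw : a ≠ w := fun e => hWw (e ▸ hWa)
      obtain ⟨W', hW'a, hW'w⟩ := exists_meet (P := P) a w haw
      have hne : W' ≠ W := fun e => hWw (e ▸ hW'w)
      refine ⟨W', hW'a, hne, ?_⟩
      rw [← Nat.card_prod]
      refine (Nat.card_eq_of_bijective
        (fun p : persp Γ W a × persp Γ W' a => (⟨(p.1 : Γ) * p.2,
          mul_mem (persp_le_elations hWa p.1.2) (persp_le_elations hW'a p.2.2)⟩ : T)) ⟨?_, ?_⟩).symm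
      · intro p p' h
        have e : (p.1 : Γ) * p.2 = (p'.1 : Γ) * p'.2 := congrArg Subtype.val h
        have h' : ((p'.1 : Γ)⁻¹ * p.1 : Γ) = (p'.2 : Γ) * (p.2 : Γ)⁻¹ := by
          rw [inv_mul_eq_iff_eq_mul, ← mul_assoc, eq_mul_inv_iff_mul_eq]
          exact e
        have h1 : ((p'.1 : Γ)⁻¹ * p.1 : Γ) = 1 :=
          persp_inter hne.symm (mul_mem (InvMemClass.inv_mem p'.1.2) p.1.2)
            (h' ▸ mul_mem p'.2.2 (InvMemClass.inv_mem p.2.2))
        rw [h1, eq_comm, mul_inv_eq_one] at h'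
        exact Prod.ext (Subtype.ext (inv_mul_eq_one.1 h1).symm) (Subtype.ext h'.symm)
      · rintro ⟨t, ht⟩
        obtain ⟨u, hu, v, hv, rfl⟩ := hsplit g hg h1 W w hgp hWa W' hW'a hW'w t ht
        exact ⟨(⟨u, hu⟩, ⟨v, hv⟩), rfl⟩
    have hpos : ∀ W : P, W ∈ a → 2 ≤ Nat.card (persp Γ W a) := by
      intro W hWa
      by_contra hlt
      have hbot : persp Γ W a = ⊥ := by
        by_contra hne
        exact hlt ((Subgroup.one_lt_card_iff_ne_bot _).2 hne)
      obtain ⟨W', hW'a, -, hc⟩ := hpart W hWa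
      rw [hbot, Subgroup.card_bot, one_mul] at hc
      refine hsingle W' fun t ht => ?_
      have he : persp Γ W' a = T :=
        Subgroup.eq_of_le_of_card_ge (persp_le_elations hW'a) hc.le
      rw [he]
      exact ht
    haveI := Fintype.ofFinite P
    obtain ⟨Z0, hZ0, hmax⟩ := Finset.exists_max_image (Finset.univ.filter fun W : P => W ∈ a)
      (fun W => Nat.card (persp Γ W a)) ⟨Y, by simp [hY.1]⟩
    simp only [Finset.mem_filter, Finset.mem_univ, true_and] at hZ0 hmax
    obtain ⟨Y0, hY0, hY0Z0, hc0⟩ := hpart Z0 hZ0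
    by_cases heq : Nat.card (persp Γ Y0 a) = Nat.card (persp Γ Z0 a)
    · refine isPrimePow_of_equal (Γ := Γ) (P := P) (a := a) (h := Nat.card (persp Γ Z0 a))
        (hpos Z0 hZ0) fun W hW => le_antisymm (hmax W hW) ?_
      obtain ⟨W', hW', -, hc⟩ := hpart W hW
      rw [hc0, heq] at hc
      have h1 := hmax W' hW'
      have h2 := hpos Z0 hZ0
      by_contra hlt
      rw [not_le] at hlt
      nlinarith [Nat.mul_le_mul_left (Nat.card (persp Γ W a)) h1]
    · have hlt : Nat.card (persp Γ Y0 a) < Nat.card (persp Γ Z0 a) :=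
        lt_of_le_of_ne (hmax Y0 hY0) heq
      have hothers : ∀ W : P, W ∈ a → W ≠ Z0 →
          Nat.card (persp Γ W a) = Nat.card (persp Γ Y0 a) := by
        intro W hW hWZ
        have hle : ∀ V : P, V ∈ a → V ≠ Z0 →
            Nat.card (persp Γ V a) ≤ Nat.card (persp Γ Y0 a) := by
          intro V hV hVZ
          have h1 : Nat.card (persp Γ V a) * Nat.card (persp Γ Z0 a) ≤ Nat.card T := by
            rw [← Nat.card_prod]
            refine Nat.card_le_card_of_injective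
              (fun p : persp Γ V a × persp Γ Z0 a => (⟨(p.1 : Γ) * p.2,
                mul_mem (persp_le_elations hV p.1.2) (persp_le_elations hZ0 p.2.2)⟩ : T)) ?_
            intro p p' h
            have e : (p.1 : Γ) * p.2 = (p'.1 : Γ) * p'.2 := congrArg Subtype.val h
            have h' : ((p'.1 : Γ)⁻¹ * p.1 : Γ) = (p'.2 : Γ) * (p.2 : Γ)⁻¹ := by
              rw [inv_mul_eq_iff_eq_mul, ← mul_assoc, eq_mul_inv_iff_mul_eq]
              exact e
            have h1 : ((p'.1 : Γ)⁻¹ * p.1 : Γ) = 1 :=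
              persp_inter hVZ (mul_mem (InvMemClass.inv_mem p'.1.2) p.1.2)
                (h' ▸ mul_mem p'.2.2 (InvMemClass.inv_mem p.2.2))
            rw [h1, eq_comm, mul_inv_eq_one] at h'
            exact Prod.ext (Subtype.ext (inv_mul_eq_one.1 h1).symm) (Subtype.ext h'.symm)
          rw [hc0, mul_comm (Nat.card (persp Γ Z0 a))] at h1
          exact Nat.le_of_mul_le_mul_right h1 (by have := hpos Z0 hZ0; omega)
        obtain ⟨W', hW', -, hc⟩ := hpart W hW
        have hW'Z : W' = Z0 := by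
          by_contra hne
          have h1 := Nat.mul_le_mul (hle W hW hWZ) (hle W' hW' hne)
          rw [← hc, hc0] at h1
          have h2 : 0 < Nat.card (persp Γ Y0 a) := Nat.card_pos
          exact absurd (Nat.le_of_mul_le_mul_right h1 h2) (not_le.2 hlt)
        rw [hW'Z, hc0, mul_comm (Nat.card (persp Γ Z0 a))] at hc
        exact (Nat.eq_of_mul_eq_mul_right (Nat.card_pos) hc).symm
      have hc := card_elations (Γ := Γ) a
      have hmem : Z0 ∈ Finset.univ.filter (fun W : P => W ∈ a) := by simp [hZ0]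
      rw [← Finset.add_sum_erase _ _ hmem, Finset.sum_congr rfl fun W hW => by
        rw [hothers W (Finset.mem_filter.1 (Finset.mem_erase.1 hW).2).2 (Finset.mem_erase.1 hW).1],
        Finset.sum_const, nsmul_eq_mul, Finset.card_erase_of_mem hmem] at hc
      have hl : (Finset.univ.filter fun W : P => W ∈ a).card = n + 1 := by
        rw [hn, ← ncard_line (P := P) a, Set.ncard_eq_toFinset_card']
        congr 1; ext; simp
      rw [hl, ← hTdef, hc0, Nat.add_sub_cancel] at hc
      push_cast at hc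
      have h2 : (2 : ℤ) ≤ Nat.card (persp Γ Y0 a) := by exact_mod_cast hpos Y0 hY0
      have h3 : (Nat.card (persp Γ Z0 a) : ℤ) = n := by
        refine mul_right_cancel₀ (show ((Nat.card (persp Γ Y0 a) : ℤ) - 1) ≠ 0 by omega) ?_
        linear_combination hc
      exact isPrimePow_of_full hY.1 hZ.1 hYZ hY.2 hZ.2 (persp Γ Z0 a) (persp_le_elations hZ0)
        (by exact_mod_cast h3)

/-- All elation axes carry one centre and all centres one axis. -/
structure Simple (Γ P L : Type*) [Membership P L] [Group Γ] [MulAction Γ P] [MulAction Γ L]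
    [Compat Γ P L] : Prop where
  axisHom : AxisHom Γ P L
  centreHom : CentreHom Γ P L
  line : ∀ (Y Z : P) (a : L), Trans Γ Y a → Trans Γ Z a → Y = Z
  point : ∀ (Z : P) (a b : L), Trans Γ Z a → Trans Γ Z b → a = b

theorem Simple.elations_le (S : Simple Γ P L) {Z : P} {a : L} (hZ : Trans Γ Z a) {t : Γ}
    (ht : t ∈ elations Γ P a) : t ∈ persp Γ Z a := by
  by_cases h1 : t = 1
  · rw [h1]; exact one_mem _
  obtain ⟨W, hW, htW⟩ := exists_mem_persp ht
  rwa [S.line Z W a hZ ⟨hW, fun e => h1 (by rwa [e, Subgroup.mem_bot] at htW)⟩]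

/-- The frame attached to a unique elation centre and axis. -/
theorem Pairs.frame (H : Pairs Γ P L) (ho : ¬ Even (ProjectivePlane.order P L)) (S : Simple Γ P L)
    {Z : P} {a : L} (hZ : Trans Γ Z a) :
    ∃ (W0 C0 : P) (w : L), W0 ≠ Z ∧ W0 ∈ a ∧ Z ∈ w ∧ C0 ∈ w ∧ w ≠ a ∧ Inv Γ W0 w ∧ Inv Γ C0 a ∧
      (∀ z : L, Inv Γ Z z → W0 ∈ z) ∧
      (∀ C : P, Inv Γ C a → C ∈ w) ∧
      (∀ (W : P) (x : L), W ∈ a → Inv Γ W x → W = Z ∨ (W = W0 ∧ x = w)) := by
  classical
  obtain ⟨Cb, hCb⟩ := S.axisHom Z a hZ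
  have hCba := H.inv_notMem ho hCb
  obtain ⟨hb, hhb, hhb1, hpb⟩ := hCb
  obtain ⟨z, hz⟩ := S.centreHom Z a hZ
  have hZz := H.inv_notMem ho hz
  obtain ⟨hZh, hhZ, hhZ1, hpZ⟩ := hz
  have haz : a ≠ z := fun e => hZz (e ▸ hZ.1)
  obtain ⟨W0, hW0a, hW0z⟩ := exists_meet (P := P) a z haz
  have hW0Z : W0 ≠ Z := fun e => hZz (e ▸ hW0z)
  obtain ⟨w, hwC, hwZ⟩ := exists_line_through (L := L) Cb Z (fun e => hCba (e ▸ hZ.1))
  have hwa : w ≠ a := fun e => hCba (e ▸ hwC)
  have horb : ∀ C : P, Inv Γ C a → C ∈ w := by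
    intro C hC
    obtain ⟨s, hs, rfl⟩ := exists_elation_smul (⟨hb, hhb, hhb1, hpb⟩ : Inv Γ Cb a) hC hCba
      (H.inv_notMem ho hC)
    exact (mem_of_fix ((S.elations_le hZ hs).2 w hwZ) Cb).2 hwC
  have haxes : ∀ z' : L, Inv Γ Z z' → W0 ∈ z' := by
    intro z' hz'
    obtain ⟨s, hs, hsz⟩ := exists_elation_smul (Γ := Γ) (P := Configuration.Dual L)
      (L := Configuration.Dual P) (C := z) (C' := z') (a := Z)
      (Inv.dual ⟨hZh, hhZ, hhZ1, hpZ⟩) hz'.dual hZz (H.inv_notMem ho hz')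
    obtain ⟨hsc, b, hZb, hsb⟩ := hs
    change L at b
    change s • z = z' at hsz
    by_cases hs1 : s = 1
    · subst hs1; rw [one_smul] at hsz; rw [← hsz]; exact hW0z
    have hb' : b = a := S.point Z b a ⟨hZb, fun e => hs1 (by
      have : s ∈ persp Γ Z b := ⟨hsb, hsc⟩
      rwa [e, Subgroup.mem_bot] at this)⟩ hZ
    subst hb'
    have h2 := (mem_smul s W0 z).2 hW0z
    have h3 : s • W0 = W0 := hsb W0 hW0a
    rw [h3] at h2
    rw [← hsz]
    exact h2
  -- a homology centre on `w` fixed by the homology at `Z`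
  have hT : elations Γ P a ≠ ⊥ := fun e => hZ.2 (by
    rw [eq_bot_iff, ← e]
    exact persp_le_elations hZ.1)
  let O : Set P := {C | Inv Γ C a}
  have hOinv : ∀ C, hZh • C ∈ O ↔ C ∈ O := by
    intro C
    have hfa : hZh • a = a := hpZ.2 a hZ.1
    constructor
    · intro h
      have h2 := Inv.smul (show Inv Γ (hZh • C) a from h) hZh
      rwa [← mul_smul, hhZ, one_smul, hfa] at h2
    · intro h
      have h2 := Inv.smul (show Inv Γ C a from h) hZh
      rwa [hfa] at h2
  have hOodd : Odd O.ncard := by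
    have hO : O = (fun t : Γ => t • Cb) '' (elations Γ P a : Set Γ) := by
      ext C
      constructor
      · intro hC
        obtain ⟨s, hs, e⟩ := exists_elation_smul (⟨hb, hhb, hhb1, hpb⟩ : Inv Γ Cb a) hC hCba
          (H.inv_notMem ho hC)
        exact ⟨s, hs, e⟩
      · rintro ⟨t, ht, rfl⟩
        have h2 := Inv.smul (⟨hb, hhb, hhb1, hpb⟩ : Inv Γ Cb a) t
        rwa [axis_fixed ht.1] at h2
    rw [hO, Set.InjOn.ncard_image, ← Nat.card_coe_set_eq]
    · exact elations_odd hhb hhb1 (show hb ∈ persp Γ Cb a from hpb) hCba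
    · intro s hs t ht e
      refine (inv_mul_eq_one.1 (elation_free (mul_mem (InvMemClass.inv_mem ht) hs) hCba ?_)).symm
      rw [mul_smul, inv_smul_eq_iff]
      exact e
  obtain ⟨C1, hC1, hC1fix⟩ : ∃ C1, Inv Γ C1 a ∧ hZh • C1 = C1 := by
    by_contra hno
    push_neg at hno
    have h1 := ncard_modEq_two hhZ O hOinv
    rw [show {C | C ∈ O ∧ hZh • C = C} = ∅ by
      ext C; exact ⟨fun h => hno C h.1 h.2, fun h => h.elim⟩, Set.ncard_empty] at h1
    exact Nat.not_even_iff_odd.2 hOodd (Nat.even_iff.2 h1)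
  have hC1a := H.inv_notMem ho hC1
  have hC1w := horb C1 hC1
  obtain ⟨h1', hh1', hh1'1, hp1⟩ := hC1
  have hC1Z : C1 ≠ Z := fun e => hC1a (e ▸ hZ.1)
  have hC1z : C1 ∈ z := (fixed_point hhZ1 hpZ.1 hpZ.2 hC1fix).resolve_right hC1Z
  have hcommute : hZh * h1' = h1' * hZh := by
    have h2 : hZh * h1' * hZh⁻¹ = h1' := by
      refine hom_unique ?_ hh1' ?_ hh1'1
        (conj_persp' (show h1' ∈ persp Γ C1 a from hp1) hC1fix (hpZ.2 a hZ.1)) hp1 hC1a hT
      · rw [show hZh * h1' * hZh⁻¹ * (hZh * h1' * hZh⁻¹) = hZh * (h1' * h1') * hZh⁻¹ by group,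
          hh1', mul_one, mul_inv_cancel]
      · intro e
        rw [mul_inv_eq_one, mul_eq_left] at e
        exact hh1'1 e
    exact mul_inv_eq_iff_eq_mul.1 h2
  set g := h1' * hZh with hg_def
  have hg2 : g * g = 1 := by
    rw [hg_def, mul_assoc, ← mul_assoc hZh, hcommute, mul_assoc h1' hZh hZh, hhZ, mul_one, hh1']
  have hg1 : g ≠ 1 := by
    intro e
    have : h1' = hZh := (eq_inv_of_mul_eq_one_left e).trans (inv_eq_of_mul_eq_one_right hhZ)
    exact hC1Z (centre_unique hhZ1 (this ▸ hp1.2) hpZ.2)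
  have hgC1 : g • C1 = C1 := by rw [hg_def, mul_smul, hC1fix, centre_fixed hp1.2]
  have hgZ : g • Z = Z := by rw [hg_def, mul_smul, centre_fixed hpZ.2, hp1.1 Z hZ.1]
  have hgW : g • W0 = W0 := by rw [hg_def, mul_smul, hpZ.1 W0 hW0z, hp1.1 W0 hW0a]
  obtain ⟨X, x, hgx⟩ := H.flag hg2 hg1
  have hW0w : W0 ∉ w := fun h => hwa (line_eq hW0Z h hwZ hW0a hZ.1)
  have hI0 : Inv Γ W0 w := by
    rcases fixed_point hg1 hgx.1 hgx.2 hgW with hW0x | rfl
    · exfalso
      rcases fixed_point hg1 hgx.1 hgx.2 hgC1 with hC1x | rfl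
      · rcases fixed_point hg1 hgx.1 hgx.2 hgZ with hZx | rfl
        · obtain rfl : x = a := line_eq hW0Z hW0x hZx hW0a hZ.1
          exact hC1a hC1x
        · -- the product would be the homology at `Z`
          have hxz : x = z := line_eq (fun e : W0 = C1 => hC1a (e ▸ hW0a)) hW0x hC1x hW0z hC1z
          subst hxz
          have hT' : elations Γ (P := Configuration.Dual L) (L := Configuration.Dual P) Z ≠ ⊥ := by
            intro e
            obtain ⟨⟨s, hs⟩, hs1⟩ := Subgroup.ne_bot_iff_exists_ne_one.1 hZ.2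
            have h5 : s ∈ elations Γ (L := Configuration.Dual P) (Configuration.Dual L) Z :=
              ⟨hs.2, (a : Configuration.Dual L), hZ.1, hs.1⟩
            rw [e, Subgroup.mem_bot] at h5
            exact hs1 (Subtype.ext h5)
          have := hom_unique (Γ := Γ) (P := Configuration.Dual L) (L := Configuration.Dual P)
            (C := x) (a := Z) hg2 hhZ hg1 hhZ1 (mem_persp_dual.2 hgx) (mem_persp_dual.2 hpZ) hZz hT'
          rw [hg_def, mul_eq_right] at this
          exact hh1'1 this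
      · rcases fixed_point hg1 hgx.1 hgx.2 hgZ with hZx | e
        · obtain rfl : x = a := line_eq hW0Z hW0x hZx hW0a hZ.1
          have := hom_unique hg2 hh1' hg1 hh1'1 hgx hp1 hC1a hT
          rw [hg_def, mul_eq_left] at this
          exact hhZ1 this
        · exact hC1Z e.symm
    · obtain hC1x := (fixed_point hg1 hgx.1 hgx.2 hgC1).resolve_right (fun e => hC1a (e ▸ hW0a))
      obtain hZx := (fixed_point hg1 hgx.1 hgx.2 hgZ).resolve_right hW0Z.symm
      rw [line_eq hC1Z hC1w hwZ hC1x hZx]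
      exact ⟨g, hg2, hg1, hgx⟩
  refine ⟨W0, Cb, w, hW0Z, hW0a, hwZ, hwC, hwa, hI0, ⟨hb, hhb, hhb1, hpb⟩, haxes, horb,
    fun W x hWa hW => ?_⟩
  by_cases hWZ : W = Z
  · exact Or.inl hWZ
  right
  have haxW : ∀ y : L, Inv Γ W y → Z ∈ y := by
    rintro y ⟨k, hk, hk1, hkp⟩
    have h2 := trans_smul hZ k
    rw [hkp.2 a hWa] at h2
    exact (fixed_point hk1 hkp.1 hkp.2 (S.line _ _ _ h2 hZ)).resolve_right (Ne.symm hWZ)
  have hxw : x = w := by
    have hZx := haxW x hW
    have hfix : hb • x = x := by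
      by_contra hne
      have h2 := hW.smul hb
      rw [hpb.1 W hWa] at h2
      have hI2 := h2
      obtain ⟨k, hk, hk1, hkp⟩ := hW
      obtain ⟨k', hk', hk'1, hkp'⟩ := h2
      obtain ⟨hmem, hne1⟩ := product_elation (Γ := Γ) (P := Configuration.Dual L)
        (L := Configuration.Dual P) hk hk' (C := x) (C' := hb • x) (a := W)
        (mem_persp_dual.2 hkp) (mem_persp_dual.2 hkp') (H.inv_notMem ho ⟨k, hk, hk1, hkp⟩)
        (H.inv_notMem ho hI2) hk1 hk'1 (Ne.symm hne)
      obtain ⟨hc, b, hWb, hbax⟩ := hmem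
      change L at b
      have hT2 : Trans Γ W b := ⟨hWb, fun e => hne1 (by
        have : k * k' ∈ persp Γ W b := ⟨hbax, hc⟩
        rwa [e, Subgroup.mem_bot] at this)⟩
      have hZfix : (k * k') • Z = Z := by
        rw [mul_smul, hkp'.1 Z (haxW _ hI2), hkp.1 Z hZx]
      have hbax' : IsAxis (P := P) (k * k') b := hbax
      have hc' : IsCentre L (k * k') W := hc
      have hZb : Z ∈ b :=
        (fixed_point hne1 hbax' hc' hZfix).resolve_right (Ne.symm hWZ)
      obtain rfl : b = a := line_eq hWZ hWb hZb hWa hZ.1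
      exact hWZ (S.line W Z b hT2 hZ)
    rcases fixed_line hhb1 hpb.1 hpb.2 hfix with hCx | rfl
    · exact line_eq (fun e : Cb = Z => hCba (e ▸ hZ.1)) hCx hZx hwC hwZ
    · exact absurd hWa (H.inv_notMem ho hW)
  subst hxw
  refine ⟨?_, rfl⟩
  by_contra hne
  obtain ⟨k, hk, hk1, hkp⟩ := hW
  obtain ⟨k', hk', hk'1, hkp'⟩ := hI0
  obtain ⟨hmem, hne1⟩ := product_elation hk hk' (show k ∈ persp Γ W x from hkp)
    (show k' ∈ persp Γ W0 x from hkp') (H.inv_notMem ho ⟨k, hk, hk1, hkp⟩) hW0w hk1 hk'1 hne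
  obtain ⟨V, hV, hVp⟩ := exists_mem_persp hmem
  have hfixa : (k * k') • a = a := by rw [mul_smul, hkp'.2 a hW0a, hkp.2 a hWa]
  have hVa : V ∈ a := (fixed_line hne1 hVp.1 hVp.2 hfixa).resolve_right (Ne.symm hwa)
  obtain rfl : V = Z := point_eq hwa hV hVa hwZ hZ.1
  exact hwa (S.point V x a ⟨hwZ, fun e => hne1 (by rwa [e, Subgroup.mem_bot] at hVp)⟩ hZ)

theorem Simple.notMem (S : Simple Γ P L) {Z Z' : P} {a a' : L} (h : Trans Γ Z a) (h' : Trans Γ Z' a')
    (hne : a ≠ a') : Z ∉ a' := by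
  intro hZa'
  have hne' : Z ≠ Z' := fun e => hne (S.point Z a a' h (e ▸ h'))
  obtain ⟨⟨s, hs⟩, hs1⟩ := Subgroup.ne_bot_iff_exists_ne_one.1 h'.2
  have hs1' : s ≠ 1 := fun e => hs1 (Subtype.ext e)
  have h2 := trans_smul h s
  rw [hs.1 Z hZa'] at h2
  have hfix : s • a = a := S.point Z _ _ h2 h
  rcases fixed_line hs1' hs.1 hs.2 hfix with hZ'a | e
  · exact hne' (point_eq hne h.1 hZa' hZ'a h'.1)
  · exact hne e

/-- The case of unique centres and axes is impossible. -/
theorem Pairs.simple_false (H : Pairs Γ P L) (ho : ¬ Even (ProjectivePlane.order P L))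
    (S : Simple Γ P L) {Z : P} {a : L} (hZ : Trans Γ Z a) : False := by
  classical
  obtain ⟨W0, C0, w, hW0Z, hW0a, hZw, hC0w, hwa, hI0, hC0, haxes, horb, hcentres⟩ := H.frame ho S hZ
  have hW0w := H.inv_notMem ho hI0
  set n := ProjectivePlane.order P L with hn
  -- all elations with axis `a` are transitive on the lines through a further point
  have hfull : ∀ W : P, W ∈ a → W ≠ Z → ∀ l : L, W ∈ l → l ≠ a → ∀ l' : L, W ∈ l' → l' ≠ a →
      ∃ s ∈ elations Γ P a, s • l = l' := by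
    obtain ⟨W1, hW1a, hW1Z, hW1W0⟩ := exists_avoid_two a Z W0
    have hcover : ∀ l : L, W1 ∈ l → l ≠ a → ∃ C : P, C ∈ l ∧ Inv Γ C a := by
      intro l hWl hla
      obtain ⟨g, hg, h1, hga, hgl⟩ := H.lines a l (Ne.symm hla)
      obtain ⟨C, b, hgb⟩ := H.flag hg h1
      have hI : Inv Γ C b := ⟨g, hg, h1, hgb⟩
      rcases fixed_line h1 hgb.1 hgb.2 hga with hCa | rfl
      · exfalso
        rcases fixed_line h1 hgb.1 hgb.2 hgl with hCl | rfl
        · obtain rfl : C = W1 := point_eq hla hCl hCa hWl hW1a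
          rcases hcentres C b hW1a hI with e | ⟨e, -⟩
          · exact hW1Z e
          · exact hW1W0 e
        · rcases hcentres C l hCa hI with rfl | ⟨-, rfl⟩
          · exact hla (line_eq hW1W0 hWl (haxes l hI) hW1a hW0a)
          · exact hla (line_eq hW1Z hWl hZw hW1a hZ.1)
      · rcases fixed_line h1 hgb.1 hgb.2 hgl with hCl | e
        · exact ⟨C, hCl, hI⟩
        · exact absurd e hla
    have hle : n ≤ Nat.card (elations Γ P a) := by
      obtain ⟨l0, hl0, hl0a⟩ := exists_ne_in_pencil (L := L) W1 a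
      obtain ⟨C1, hC1l, hC1⟩ := hcover l0 hl0 hl0a
      have hex : ∀ l : ({l : L | W1 ∈ l} \ {a} : Set L), ∃ t : elations Γ P a, (t : Γ) • l0 = l := by
        rintro ⟨l, hl, hla⟩
        obtain ⟨C, hCl, hC⟩ := hcover l hl hla
        obtain ⟨s, hs, hsC⟩ := exists_elation_smul hC1 hC (H.inv_notMem ho hC1) (H.inv_notMem ho hC)
        refine ⟨⟨s, hs⟩, line_eq (A := W1) (B := C) (fun e => H.inv_notMem ho hC (e ▸ hW1a))
          ?_ ?_ hl hCl⟩
        · have := (mem_smul s W1 l0).2 hl0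
          rwa [hs.1 W1 hW1a] at this
        · rw [← hsC]; exact (mem_smul s C1 l0).2 hC1l
      choose f hf using hex
      have h2 := Nat.card_le_card_of_injective f fun x y e => Subtype.ext (by rw [← hf x, ← hf y, e])
      rw [Nat.card_coe_set_eq, Set.ncard_diff_singleton_of_mem (show a ∈ {l : L | W1 ∈ l} from hW1a),
        ncard_pencil W1] at h2
      simpa using h2
    intro W hWa hWZ l hWl hla
    by_contra hno
    push_neg at hno
    obtain ⟨l', hl', hl'a, hno⟩ := hno
    have hsub : (fun t : Γ => t • l) '' (elations Γ P a : Set Γ) ⊆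
        ({m : L | W ∈ m} \ {a}) \ {l'} := by
      rintro _ ⟨t, ht, rfl⟩
      refine ⟨⟨?_, fun e => hla (MulAction.injective t (e.trans (axis_fixed ht.1).symm))⟩,
        hno t ht⟩
      have := (mem_smul t W l).2 hWl
      rwa [ht.1 W hWa] at this
    have hinj : Set.InjOn (fun t : Γ => t • l) (elations Γ P a : Set Γ) := by
      intro s hs t ht e
      have h2 : t⁻¹ * s ∈ persp Γ W a := mem_persp_of_fixed_line (mul_mem (InvMemClass.inv_mem ht) hs) hWa hWl hla
        (by rw [mul_smul, inv_smul_eq_iff]; exact e)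
      refine (inv_mul_eq_one.1 ?_).symm
      by_contra h1
      exact hWZ (S.line W Z a ⟨hWa, fun e' => h1 (by rwa [e', Subgroup.mem_bot] at h2)⟩ hZ)
    have h3 := Set.ncard_le_ncard hsub
    rw [hinj.ncard_image, Set.ncard_diff_singleton_of_mem (show l' ∈ {m : L | W ∈ m} \ {a} from
      ⟨hl', hl'a⟩), Set.ncard_diff_singleton_of_mem (show a ∈ {m : L | W ∈ m} from hWa),
      ncard_pencil W, ← Nat.card_coe_set_eq, ← hn] at h3
    have h4 : n ≤ n + 1 - 1 - 1 := hle.trans h3
    have := H.three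
    omega
  -- another tangent
  obtain ⟨g₀, hg₀⟩ : ∃ g : Γ, g • a ≠ a := by
    by_contra hfix
    push_neg at hfix
    obtain ⟨W1, hW1a, hW1Z, hW1W0⟩ := exists_avoid_two a Z W0
    obtain ⟨l, hW1l, hla⟩ := exists_ne_in_pencil (L := L) W1 a
    have hlw : l ≠ w := fun e => hla (line_eq hW1Z hW1l (e ▸ hZw) hW1a hZ.1)
    obtain ⟨Q, hQl, hQw⟩ := exists_meet (P := P) l w hlw
    obtain ⟨A, hAl, hAW, hAQ⟩ := exists_avoid_two l W1 Q
    obtain ⟨B, hBl, hBne⟩ : ∃ B : P, B ∈ l ∧ B ∉ ({W1, Q, A} : Set P) := by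
      refine Set.exists_mem_notMem_of_ncard_lt_ncard (s := {W1, Q, A}) (t := {x : P | x ∈ l}) ?_
      rw [ncard_line l]
      have h2 : ({W1, Q, A} : Set P).ncard ≤ 3 := by
        refine (Set.ncard_insert_le _ _).trans ?_
        refine Nat.succ_le_succ ((Set.ncard_insert_le _ _).trans ?_)
        rw [Set.ncard_singleton]
      have := H.three
      omega
    simp only [Set.mem_insert_iff, Set.mem_singleton_iff, not_or] at hBne
    have hoff : ∀ X : P, X ∈ l → X ≠ W1 → X ≠ Q → X ∉ a ∧ X ∉ w := fun X hX h1 h2 =>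
      ⟨fun h => h1 (point_eq hla hX h hW1l hW1a), fun h => h2 (point_eq hlw hX h hQl hQw)⟩
    obtain ⟨hAa, hAw⟩ := hoff A hAl hAW hAQ
    obtain ⟨hBa, hBw⟩ := hoff B hBl hBne.1 hBne.2.1
    obtain ⟨g, hg, h1, hgA, hgB⟩ := H.pts A B (Ne.symm hBne.2.2)
    obtain ⟨X, x, hgx⟩ := H.flag hg h1
    have hI : Inv Γ X x := ⟨g, hg, h1, hgx⟩
    rcases fixed_line h1 hgx.1 hgx.2 (hfix g) with hXa | rfl
    · have hAx := (fixed_point h1 hgx.1 hgx.2 hgA).resolve_right (fun e => hAa (e ▸ hXa))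
      have hBx := (fixed_point h1 hgx.1 hgx.2 hgB).resolve_right (fun e => hBa (e ▸ hXa))
      obtain rfl : x = l := line_eq (Ne.symm hBne.2.2) hAx hBx hAl hBl
      rcases hcentres X x hXa hI with rfl | ⟨-, e⟩
      · exact hla (line_eq hW1W0 hW1l (haxes x hI) hW1a hW0a)
      · exact hlw e
    · rcases fixed_point h1 hgx.1 hgx.2 hgA with h | rfl
      · exact hAa h
      · exact hAw (horb A hI)
  have hT' := trans_smul hZ g₀
  -- all tangents other than `a` pass through `W0`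
  have hthrough : ∀ (Z' : P) (a' : L), Trans Γ Z' a' → a' ≠ a → W0 ∈ a' := by
    intro Z' a' h' hne
    obtain ⟨W, hWa', hWa⟩ := exists_meet (P := P) a' a hne
    have hWZ : W ≠ Z := fun e => S.notMem hZ h' hne.symm (e ▸ hWa')
    have hC0a := H.inv_notMem ho hC0
    obtain ⟨l, hWl, hC0l⟩ := exists_line_through (L := L) W C0 (fun e => hC0a (e ▸ hWa))
    have hla : l ≠ a := fun e => hC0a (e ▸ hC0l)
    obtain ⟨s, hs, hsl⟩ := hfull W hWa hWZ a' hWa' hne l hWl hla
    have hl := trans_smul h' s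
    rw [hsl] at hl
    set V := s • Z' with hV
    obtain ⟨h0, hh0, hh01, hp0⟩ := hC0
    have h3 := trans_smul hl h0
    rw [hp0.2 l hC0l] at h3
    have hVfix : h0 • V = V := S.line _ _ _ h3 hl
    rcases fixed_point hh01 hp0.1 hp0.2 hVfix with hVa | e
    · exact absurd hVa (S.notMem hl hZ hla)
    rw [e] at hl
    obtain ⟨W0', C', w', -, hW0'l, -, -, -, hI', -, haxes', -, -⟩ := H.frame ho S hl
    obtain rfl : W0' = W := point_eq hla hW0'l (haxes' a ⟨h0, hh0, hh01, hp0⟩) hWl hWa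
    rcases hcentres W0' w' hWa hI' with e' | ⟨e', -⟩
    · exact absurd e' hWZ
    · exact e' ▸ hWa'
  have hall : ∀ (Z' : P) (a' : L), Trans Γ Z' a' → Z' ∈ w := by
    intro Z' a' h'
    by_cases he : a' = a
    · subst he; rw [S.line Z' Z a' h' hZ]; exact hZw
    have hW := hthrough Z' a' h' he
    obtain ⟨k, hk, hk1, hkp⟩ := hI0
    have h2 := trans_smul h' k
    rw [hkp.2 a' hW] at h2
    rcases fixed_point hk1 hkp.1 hkp.2 (S.line _ _ _ h2 h') with h | e
    · exact h
    · exact absurd (e ▸ hW0a) (S.notMem h' hZ he)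
  -- the whole group fixes `W0` and `w`
  have hZne : g₀ • Z ≠ Z := fun e => hg₀ (S.point Z _ _ (e ▸ hT') hZ)
  have hinj : ∀ g : Γ, g • w = w := by
    intro g
    refine line_eq (fun e => hZne (MulAction.injective g e)) ((mem_smul g _ w).2 (hall _ _ hT'))
      ((mem_smul g Z w).2 hZw) (hall _ _ (trans_smul hT' g)) (hall _ _ (trans_smul hZ g))
  have hthrough' : ∀ (Z' : P) (a' : L), Trans Γ Z' a' → W0 ∈ a' := fun Z' a' h' => by
    by_cases he : a' = a
    · exact he ▸ hW0a
    · exact hthrough Z' a' h' he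
  have hW0fix : ∀ g : Γ, g • W0 = W0 := by
    intro g
    exact point_eq (fun e : g • g₀ • a = g • a => hg₀ (MulAction.injective g e))
      ((mem_smul g W0 _).2 (hthrough' _ _ hT')) ((mem_smul g W0 a).2 hW0a)
      (hthrough' _ _ (trans_smul hT' g)) (hthrough' _ _ (trans_smul hZ g))
  obtain ⟨l, hZl, hla, hlw⟩ := exists_third_line (L := L) Z a w
  have hW0l : W0 ∉ l := fun h => hla (line_eq hW0Z h hZl hW0a hZ.1)
  obtain ⟨A, hAl, hAZ⟩ := exists_ne_on_line l Z
  obtain ⟨B, hBl, hBZ, hBA⟩ := exists_avoid_two l Z A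
  obtain ⟨g, hg, h1, hgA, hgB⟩ := H.pts A B hBA.symm
  obtain ⟨X, x, hgx⟩ := H.flag hg h1
  have hAw : A ∉ w := fun h => hAZ (point_eq hlw hAl h hZl hZw)
  have hBw : B ∉ w := fun h => hBZ (point_eq hlw hBl h hZl hZw)
  rcases fixed_point h1 hgx.1 hgx.2 (hW0fix g) with hW0x | rfl
  · rcases fixed_line h1 hgx.1 hgx.2 (hinj g) with hXw | rfl
    · have hAx := (fixed_point h1 hgx.1 hgx.2 hgA).resolve_right (fun e => hAw (e ▸ hXw))
      have hBx := (fixed_point h1 hgx.1 hgx.2 hgB).resolve_right (fun e => hBw (e ▸ hXw))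
      exact hW0l (line_eq hBA.symm hAx hBx hAl hBl ▸ hW0x)
    · exact hW0w hW0x
  · rcases fixed_line h1 hgx.1 hgx.2 (hinj g) with hXw | rfl
    · exact hW0w hXw
    · rcases fixed_point h1 hgx.1 hgx.2 hgA with h | rfl
      · exact hAw h
      · exact hW0l hAl

theorem trans_dual {Z : P} {a : L} :
    Trans Γ (P := Configuration.Dual L) (L := Configuration.Dual P) a Z ↔ Trans Γ Z a := by
  constructor
  · rintro ⟨h, h'⟩
    exact ⟨h, fun e => h' (persp_dual_eq.trans e)⟩
  · rintro ⟨h, h'⟩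
    exact ⟨h, fun e => h' (persp_dual_eq.symm.trans e)⟩

/-- Odd order: the order is a prime power. -/
theorem Pairs.odd (H : Pairs Γ P L) (ho : ¬ Even (ProjectivePlane.order P L)) :
    IsPrimePow (ProjectivePlane.order P L) := by
  have ho' : ¬ Even (ProjectivePlane.order (Configuration.Dual L) (Configuration.Dual P)) := by
    rwa [ProjectivePlane.Dual.order]
  by_cases hAx : AxisHom Γ P L
  swap
  · simp only [AxisHom, not_forall, not_exists] at hAx
    obtain ⟨Z, a, h, hX⟩ := hAx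
    exact H.noHom h hX
  by_cases hCe : CentreHom Γ P L
  swap
  · simp only [CentreHom, not_forall, not_exists] at hCe
    obtain ⟨Z, a, h, hX⟩ := hCe
    rw [← ProjectivePlane.Dual.order]
    refine H.dual.noHom ((trans_dual (P := P) (L := L)).2 h) fun z hz => hX z ?_
    obtain ⟨g, hg, h1, hax, hce⟩ := hz
    exact ⟨g, hg, h1, hce, hax⟩
  by_cases hline : ∀ (Y Z : P) (a : L), Trans Γ Y a → Trans Γ Z a → Y = Z
  swap
  · simp only [not_forall] at hline
    obtain ⟨Y, Z, a, hY, hZ, hne⟩ := hline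
    exact H.odd_multi ho hAx hCe hne hY hZ
  by_cases hpoint : ∀ (Z : P) (a b : L), Trans Γ Z a → Trans Γ Z b → a = b
  swap
  · simp only [not_forall] at hpoint
    obtain ⟨Z, a, b, ha, hb, hne⟩ := hpoint
    rw [← ProjectivePlane.Dual.order]
    have hAx' : AxisHom Γ (Configuration.Dual L) (Configuration.Dual P) := fun b' Z' h => by
      obtain ⟨z, hz⟩ := hCe Z' b' (trans_dual.1 h)
      exact ⟨z, hz.dual⟩
    have hCe' : CentreHom Γ (Configuration.Dual L) (Configuration.Dual P) := fun b' Z' h => by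
      obtain ⟨C, hC⟩ := hAx Z' b' (trans_dual.1 h)
      exact ⟨C, hC.dual⟩
    exact H.dual.odd_multi ho' hAx' hCe' hne ((trans_dual (P := P) (L := L)).2 ha) ((trans_dual (P := P) (L := L)).2 hb)
  exfalso
  obtain ⟨a, ha⟩ := H.exists_elation ho
  obtain ⟨⟨t, ht⟩, ht1⟩ := Subgroup.ne_bot_iff_exists_ne_one.1 ha
  obtain ⟨Z, hZ, htZ⟩ := exists_mem_persp ht
  exact H.simple_false ho ⟨hAx, hCe, hline, hpoint⟩
    (⟨hZ, fun e => ht1 (Subtype.ext (by rwa [e, Subgroup.mem_bot] at htZ))⟩ : Trans Γ Z a)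

/-- A group with involutory perspectivities for all pairs lives on a plane of prime power order. -/
theorem Pairs.isPrimePow (H : Pairs Γ P L) : IsPrimePow (ProjectivePlane.order P L) :=
  (em (Even (ProjectivePlane.order P L))).elim H.even H.odd

end CfsgLib.OW
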