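import Cfsg.Agent.OstromWagner.Invol
import Mathlib.GroupTheory.OrderOfElement
import Mathlib.GroupTheory.PGroup
import Mathlib.GroupTheory.GroupAction.SubMulAction
import Mathlib.GroupTheory.Perm.Cycle.Type
import Mathlib.Data.Nat.Prime.Basic

/-!
# Groups of perspectivities of a finite projective plane
-/

set_option autoImplicit false

namespace CfsgLib.OW

open Configuration MulAction

/-- A subgroup acting freely on an invariant set has order dividing the size of the set. -/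
theorem card_dvd_of_free {Γ X : Type*} [Group Γ] [MulAction Γ X] [Finite X] (U : Subgroup Γ)
    (S : Set X) (hinv : ∀ u ∈ U, ∀ x ∈ S, u • x ∈ S)
    (hfree : ∀ u ∈ U, ∀ x ∈ S, u • x = x → u = 1) : Nat.card U ∣ S.ncard := by
  let Y : SubMulAction U X := ⟨S, fun u x hx => hinv u u.2 x hx⟩
  haveI : Finite Y := Finite.of_injective (fun y : Y => (y : X)) Subtype.val_injective
  have hstab : ∀ y : Y, stabilizer U y = ⊥ := by
    intro y
    rw [Subgroup.eq_bot_iff_forall]
    intro u hu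
    exact Subtype.ext (hfree u u.2 _ y.2 (congrArg (fun y : Y => (y : X)) hu))
  have := Nat.card_congr (MulAction.selfEquivOrbitsQuotientProd hstab)
  rw [Nat.card_prod] at this
  rw [← Nat.card_coe_set_eq]
  exact ⟨_, (this.trans (mul_comm _ _))⟩

/-- An involution commuting with a group while fixing none of its non-identity elements inverts it. -/
theorem inv_of_fpf {Γ : Type*} [Group Γ] (V : Subgroup Γ) [Finite V] {h : Γ} (hh : h * h = 1)
    (hnorm : ∀ v ∈ V, h * v * h⁻¹ ∈ V) (hfpf : ∀ v ∈ V, h * v = v * h → v = 1) :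
    ∀ v ∈ V, h * v * h⁻¹ = v⁻¹ := by
  have hinv : h⁻¹ = h := inv_eq_of_mul_eq_one_right hh
  let f : V → V := fun v => ⟨(v : Γ)⁻¹ * (h * v * h⁻¹), mul_mem (inv_mem v.2) (hnorm v v.2)⟩
  have hinj : Function.Injective f := by
    intro v w e
    have e' : (v : Γ)⁻¹ * (h * v * h⁻¹) = (w : Γ)⁻¹ * (h * w * h⁻¹) := congrArg Subtype.val e
    have h2 : h * ((w : Γ) * (v : Γ)⁻¹) = ((w : Γ) * (v : Γ)⁻¹) * h := by
      have e2 := congrArg (fun x => (w : Γ) * x * h * ((v : Γ)⁻¹)) e'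
      simp only [mul_assoc, inv_mul_cancel_left, mul_inv_cancel_left, mul_inv_cancel, mul_one] at e2
      rw [← mul_assoc, ← mul_assoc] at e2
      have e3 : (w : Γ) * (v : Γ)⁻¹ * h = h * ((w : Γ) * (v : Γ)⁻¹) := by
        simpa [mul_assoc] using e2
      exact e3.symm
    have h3 := hfpf _ (mul_mem w.2 (inv_mem v.2)) h2
    exact Subtype.ext (mul_inv_eq_one.1 h3).symm
  intro v hv
  obtain ⟨w, hw⟩ := Finite.injective_iff_surjective.1 hinj ⟨v, hv⟩
  have hv' : v = (w : Γ)⁻¹ * (h * w * h⁻¹) := (congrArg Subtype.val hw).symm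
  rw [hv', hinv]
  simp only [mul_inv_rev, inv_inv, hinv, mul_assoc]
  rw [hh, mul_one]

variable {Γ P L : Type*} [Membership P L] [ProjectivePlane P L] [Finite P] [Finite L] [Group Γ]
  [MulAction Γ P] [MulAction Γ L] [Compat Γ P L] [FaithfulSMul Γ P]

variable (Γ) in
/-- The perspectivities with given centre and axis. -/
def persp (Z : P) (a : L) : Subgroup Γ where
  carrier := {g | IsAxis (P := P) g a ∧ IsCentre L g Z}
  mul_mem' hs ht := ⟨fun p hp => by rw [mul_smul, ht.1 p hp, hs.1 p hp],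
    fun l hl => by rw [mul_smul, ht.2 l hl, hs.2 l hl]⟩
  one_mem' := ⟨fun p _ => one_smul Γ p, fun l _ => one_smul Γ l⟩
  inv_mem' ht := ⟨fun p hp => inv_smul_eq_iff.2 (ht.1 p hp).symm,
    fun l hl => inv_smul_eq_iff.2 (ht.2 l hl).symm⟩

theorem conj_axis (g : Γ) {t : Γ} {a : L} (ht : IsAxis (P := P) t a) :
    IsAxis (P := P) (g * t * g⁻¹) (g • a) := fun p hp => by
  rw [mul_smul, mul_smul, ht _ ((mem_smul' g p a).1 hp), smul_inv_smul]

theorem conj_centre (g : Γ) {t : Γ} {Z : P} (ht : IsCentre L t Z) :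
    IsCentre L (g * t * g⁻¹) (g • Z) := fun l hl => by
  have h : Z ∈ g⁻¹ • l := by rw [mem_smul', inv_inv]; exact hl
  rw [mul_smul, mul_smul, ht _ h, smul_inv_smul]

theorem conj_persp (g : Γ) {t : Γ} {Z : P} {a : L} (ht : t ∈ persp Γ Z a) :
    g * t * g⁻¹ ∈ persp Γ (g • Z) (g • a) := ⟨conj_axis g ht.1, conj_centre g ht.2⟩

theorem conj_persp' {g : Γ} {t : Γ} {Z : P} {a : L} (ht : t ∈ persp Γ Z a) (hZ : g • Z = Z)
    (ha : g • a = a) : g * t * g⁻¹ ∈ persp Γ Z a := by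
  have := conj_persp g ht
  rwa [hZ, ha] at this

theorem persp_inter {Y Z : P} {a b : L} (h : Y ≠ Z) {t : Γ} (hY : t ∈ persp Γ Y a)
    (hZ : t ∈ persp Γ Z b) : t = 1 := by
  by_contra h1
  exact h (centre_unique h1 hY.2 hZ.2)

theorem persp_inter' {Y Z : P} {a b : L} (h : a ≠ b) {t : Γ} (hY : t ∈ persp Γ Y a)
    (hZ : t ∈ persp Γ Z b) : t = 1 := by
  by_contra h1
  exact h (axis_unique h1 hY.1 hZ.1)

/-- A perspectivity fixes no point off axis and centre. -/
theorem eq_one_of_fixed {Z : P} {a : L} {t : Γ} (ht : t ∈ persp Γ Z a) {p : P} (hp : p ∉ a)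
    (hpZ : p ≠ Z) (htp : t • p = p) : t = 1 := by
  by_contra h1
  exact (fixed_point h1 ht.1 ht.2 htp).elim hp hpZ

theorem eq_one_of_fixed_line {Z : P} {a : L} {t : Γ} (ht : t ∈ persp Γ Z a) {l : L} (hl : Z ∉ l)
    (hla : l ≠ a) (htl : t • l = l) : t = 1 := by
  by_contra h1
  exact (fixed_line h1 ht.1 ht.2 htl).elim hl hla

variable (Γ P) in
/-- The elations with given axis. -/
def elations (a : L) : Subgroup Γ where
  carrier := {g | IsAxis (P := P) g a ∧ ∃ Z : P, Z ∈ a ∧ IsCentre L g Z}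
  mul_mem' := by
    rintro s t ⟨hs, Zs, hZs, hsc⟩ ⟨ht, Zt, hZt, htc⟩
    have hst : IsAxis (P := P) (s * t) a := fun p hp => by rw [mul_smul, ht p hp, hs p hp]
    refine ⟨hst, ?_⟩
    by_cases ht1 : t = 1
    · subst ht1; exact ⟨Zs, hZs, by rw [mul_one]; exact hsc⟩
    obtain ⟨C, hC⟩ := exists_centre hst
    by_cases hCa : C ∈ a
    · exact ⟨C, hCa, hC⟩
    have h1 : t • C = s⁻¹ • C := by
      have h2 : (s * t) • C = C := centre_fixed hC
      rw [mul_smul] at h2
      exact eq_inv_smul_iff.2 h2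
    have hne : t • C ≠ C := fun e =>
      (fixed_point ht1 ht htc e).elim hCa (fun e' => hCa (e' ▸ hZt))
    obtain ⟨l, hlC, hlZ⟩ := exists_line_through (L := L) C Zt (fun e => hCa (e ▸ hZt))
    obtain ⟨m, hmC, hmZ⟩ := exists_line_through (L := L) C Zs (fun e => hCa (e ▸ hZs))
    have hlm : l = m := by
      refine line_eq hne ((mem_of_fix (htc l hlZ) C).2 hlC) hlC ?_ hmC
      rw [h1, mem_of_fix (inv_smul_eq_iff.2 (hsc m hmZ).symm) C]
      exact hmC
    subst hlm
    have hla : l ≠ a := fun e => hCa (e ▸ hlC)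
    obtain rfl : Zs = Zt := point_eq hla hmZ hZs hlZ hZt
    exact ⟨Zs, hZs, fun k hk => by rw [mul_smul, htc k hk, hsc k hk]⟩
  one_mem' := by
    obtain ⟨l, hl⟩ : ∃ Z : P, Z ∈ a := ⟨_, (exists_ne_on_line a (Classical.choose
      (Nondegenerate.exists_point (P := P) a))).choose_spec.1⟩
    exact ⟨fun p _ => one_smul Γ p, l, hl, fun k _ => one_smul Γ k⟩
  inv_mem' := by
    rintro t ⟨ht, Z, hZ, hc⟩
    exact ⟨fun p hp => inv_smul_eq_iff.2 (ht p hp).symm, Z, hZ,
      fun l hl => inv_smul_eq_iff.2 (hc l hl).symm⟩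

theorem persp_le_elations {Z : P} {a : L} (h : Z ∈ a) : persp Γ Z a ≤ elations Γ P a :=
  fun _ ht => ⟨ht.1, Z, h, ht.2⟩

theorem exists_mem_persp {a : L} {t : Γ} (ht : t ∈ elations Γ P a) :
    ∃ Z : P, Z ∈ a ∧ t ∈ persp Γ Z a := by
  obtain ⟨h1, Z, hZ, h2⟩ := ht
  exact ⟨Z, hZ, h1, h2⟩

theorem elation_free {a : L} {t : Γ} (ht : t ∈ elations Γ P a) {p : P} (hp : p ∉ a)
    (htp : t • p = p) : t = 1 := by
  obtain ⟨Z, hZ, h⟩ := exists_mem_persp ht
  exact eq_one_of_fixed h hp (fun e => hp (e ▸ hZ)) htp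

theorem mem_persp_of_fixed_line {a : L} {t : Γ} (ht : t ∈ elations Γ P a) {Y : P} (hY : Y ∈ a)
    {l : L} (hYl : Y ∈ l) (hla : l ≠ a) (htl : t • l = l) : t ∈ persp Γ Y a := by
  obtain ⟨Z, hZ, h⟩ := exists_mem_persp ht
  by_cases h1 : t = 1
  · rw [h1]; exact one_mem _
  have hZl : Z ∈ l := (fixed_line h1 h.1 h.2 htl).resolve_right hla
  obtain rfl : Z = Y := point_eq hla hZl hZ hYl hY
  exact h

theorem conj_elations {g : Γ} {a : L} (hga : g • a = a) {t : Γ} (ht : t ∈ elations Γ P a) :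
    g * t * g⁻¹ ∈ elations Γ P a := by
  obtain ⟨Z, hZ, h⟩ := exists_mem_persp ht
  have h' := conj_persp g h
  rw [hga] at h'
  exact persp_le_elations ((mem_of_fix hga Z).2 hZ) h'

variable [Finite Γ]

/-- Elations with one axis and at least two centres form an elementary abelian group. -/
theorem elations_structure {a : L} {Y Z : P} (hY : Y ∈ a) (hZ : Z ∈ a) (hYZ : Y ≠ Z)
    {s₀ t₀ : Γ} (hs₀ : s₀ ∈ persp Γ Y a) (ht₀ : t₀ ∈ persp Γ Z a) (hs₀1 : s₀ ≠ 1) (ht₀1 : t₀ ≠ 1) :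
    (∀ s ∈ elations Γ P a, ∀ t ∈ elations Γ P a, s * t = t * s) ∧
      ∃ p : ℕ, p.Prime ∧ ∀ t ∈ elations Γ P a, t ^ p = 1 := by
  have hnorm : ∀ {W : P}, W ∈ a → ∀ s ∈ elations Γ P a, ∀ t ∈ persp Γ W a,
      s * t * s⁻¹ ∈ persp Γ W a := fun hW s hs t ht =>
    conj_persp' ht (hs.1 _ hW) (axis_fixed hs.1)
  have hcomm : ∀ {W W' : P}, W ∈ a → W' ∈ a → W ≠ W' → ∀ s ∈ persp Γ W a, ∀ t ∈ persp Γ W' a,
      s * t = t * s := by
    intro W W' hW hW' hne s hs t ht
    rw [← mul_inv_eq_one]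
    refine persp_inter (a := a) (b := a) hne ?_ ?_
    · rw [show s * t * (t * s)⁻¹ = s * (t * s⁻¹ * t⁻¹) by group]
      exact mul_mem hs (hnorm hW t (persp_le_elations hW' ht) _ (inv_mem hs))
    · rw [show s * t * (t * s)⁻¹ = (s * t * s⁻¹) * t⁻¹ by group]
      exact mul_mem (hnorm hW' s (persp_le_elations hW hs) _ ht) (inv_mem ht)
  have hthird : ∀ {W W' : P}, W ∈ a → W' ∈ a → W ≠ W' → ∀ s ∈ persp Γ W a, ∀ t ∈ persp Γ W' a,
      s ≠ 1 → t ≠ 1 → ∃ V : P, V ∈ a ∧ V ≠ W ∧ V ≠ W' ∧ s * t ∈ persp Γ V a := by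
    intro W W' hW hW' hne s hs t ht hs1 ht1
    obtain ⟨V, hV, hV'⟩ := exists_mem_persp
      (mul_mem (persp_le_elations hW hs) (persp_le_elations hW' ht))
    refine ⟨V, hV, ?_, ?_, hV'⟩
    · rintro rfl
      exact ht1 (persp_inter hne ((Subgroup.mul_mem_cancel_left _ hs).1 hV') ht)
    · rintro rfl
      exact hs1 (persp_inter hne hs ((Subgroup.mul_mem_cancel_right _ ht).1 hV'))
  have hex : ∀ W : P, ∃ V : P, V ∈ a ∧ V ≠ W ∧ ∃ e ∈ persp Γ V a, e ≠ (1 : Γ) := by
    intro W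
    by_cases hW : W = Y
    · exact ⟨Z, hZ, fun e => hYZ (hW ▸ e.symm), t₀, ht₀, ht₀1⟩
    · exact ⟨Y, hY, Ne.symm hW, s₀, hs₀, hs₀1⟩
  have hall : ∀ s ∈ elations Γ P a, ∀ t ∈ elations Γ P a, s * t = t * s := by
    intro s hs t ht
    rcases eq_or_ne s 1 with rfl | hs1
    · simp
    rcases eq_or_ne t 1 with rfl | ht1
    · simp
    obtain ⟨W, hW, hsW⟩ := exists_mem_persp hs
    obtain ⟨W', hW', htW⟩ := exists_mem_persp ht
    rcases eq_or_ne W W' with rfl | hne
    · obtain ⟨V, hV, hVW, e, he, he1⟩ := hex W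
      obtain ⟨U, hU, hUW, -, hse⟩ := hthird hW hV hVW.symm s hsW e he hs1 he1
      have h1 : t * (s * e) = (s * e) * t := hcomm hW hU hUW.symm t htW _ hse
      have h2 : t * e = e * t := hcomm hW hV hVW.symm t htW e he
      refine mul_right_cancel (b := e) ?_
      rw [mul_assoc s t e, h2, ← mul_assoc s e t, ← h1, ← mul_assoc]
    · exact hcomm hW hW' hne s hsW t htW
  refine ⟨hall, ?_⟩
  have key : ∀ {W W' : P}, W ∈ a → W' ∈ a → W ≠ W' → ∀ s ∈ persp Γ W a, ∀ t ∈ persp Γ W' a,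
      s ≠ 1 → t ≠ 1 → t ^ orderOf s = 1 := by
    intro W W' hW hW' h s hs t ht hs1 ht1
    obtain ⟨V, -, -, hVW', hst⟩ := hthird hW hW' h s hs t ht hs1 ht1
    have hc : Commute s t := hall s (persp_le_elations hW hs) t (persp_le_elations hW' ht)
    have h1 : (s * t) ^ orderOf s = t ^ orderOf s := by
      rw [hc.mul_pow, pow_orderOf_eq_one, one_mul]
    exact persp_inter hVW' (h1 ▸ pow_mem hst _) (pow_mem ht _)
  obtain ⟨r, hr, hrd⟩ := Nat.exists_prime_and_dvd (n := orderOf s₀)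
    (fun e => hs₀1 (orderOf_eq_one_iff.1 e))
  have hwo : orderOf (s₀ ^ (orderOf s₀ / r)) = r :=
    orderOf_pow_orderOf_div (orderOf_pos s₀).ne' hrd
  have hw1 : s₀ ^ (orderOf s₀ / r) ≠ 1 := fun e => hr.ne_one (by rw [← hwo, e, orderOf_one])
  have hw : s₀ ^ (orderOf s₀ / r) ∈ persp Γ Y a := pow_mem hs₀ _
  have hZr : ∀ t ∈ persp Γ Z a, t ^ r = 1 := by
    intro t ht
    rcases eq_or_ne t 1 with rfl | ht1
    · exact one_pow _
    have := key hY hZ hYZ _ hw t ht hw1 ht1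
    rwa [hwo] at this
  haveI := Fact.mk hr
  have heo : orderOf t₀ = r := orderOf_eq_prime (hZr t₀ ht₀) ht₀1
  refine ⟨r, hr, fun t ht => ?_⟩
  rcases eq_or_ne t 1 with rfl | ht1
  · exact one_pow _
  obtain ⟨W, hW, htW⟩ := exists_mem_persp ht
  rcases eq_or_ne W Z with rfl | hWZ
  · exact hZr t htW
  · have := key hZ hW hWZ.symm t₀ ht₀ t htW ht₀1 ht1
    rwa [heo] at this

/-- The class equation of a group of elations with respect to its centres. -/
theorem card_elations (a : L) [Fintype P] [DecidablePred fun Z : P => Z ∈ a] :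
    (Nat.card (elations Γ P a) : ℤ) - 1 =
      ∑ Z ∈ Finset.univ.filter (fun Z : P => Z ∈ a), ((Nat.card (persp Γ Z a) : ℤ) - 1) := by
  classical
  haveI := Fintype.ofFinite Γ
  let N : Subgroup Γ → Finset Γ := fun V => Finset.univ.filter fun t => t ∈ V ∧ t ≠ 1
  have hN : ∀ V : Subgroup Γ, ((N V).card : ℤ) = (Nat.card V : ℤ) - 1 := by
    intro V
    have h1 : (N V) = ((Finset.univ.filter fun t => t ∈ V).erase 1) := by
      ext t; simp [N, and_comm]
    rw [h1, Finset.card_erase_of_mem (by simp [one_mem]), Nat.cast_sub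
      (Finset.card_pos.2 ⟨1, by simp [one_mem]⟩), Nat.card_eq_fintype_card,
      ← Fintype.card_subtype]
    simp
  have hd : ∀ Z ∈ Finset.univ.filter (fun Z : P => Z ∈ a),
      ∀ Z' ∈ Finset.univ.filter (fun Z : P => Z ∈ a), Z ≠ Z' →
      Disjoint (N (persp Γ Z a)) (N (persp Γ Z' a)) := by
    intro Z _ Z' _ hne
    rw [Finset.disjoint_left]
    intro t ht ht'
    simp only [N, Finset.mem_filter] at ht ht'
    exact ht.2.2 (persp_inter hne ht.2.1 ht'.2.1)
  have hu : N (elations Γ P a) =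
      (Finset.univ.filter (fun Z : P => Z ∈ a)).biUnion fun Z => N (persp Γ Z a) := by
    ext t
    simp only [N, Finset.mem_filter, Finset.mem_univ, true_and, Finset.mem_biUnion]
    constructor
    · rintro ⟨ht, ht1⟩
      obtain ⟨Z, hZ, htZ⟩ := exists_mem_persp ht
      exact ⟨Z, hZ, htZ, ht1⟩
    · rintro ⟨Z, hZ, htZ, ht1⟩
      exact ⟨persp_le_elations hZ htZ, ht1⟩
  rw [← hN, hu, Finset.card_biUnion hd, Nat.cast_sum]
  exact Finset.sum_congr rfl fun Z _ => hN _

/-- The elations with one centre act freely on the points of a line through the centre. -/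
theorem card_persp_dvd_order {Z : P} {a : L} (hZ : Z ∈ a) :
    Nat.card (persp Γ Z a) ∣ ProjectivePlane.order P L := by
  obtain ⟨l, hl, hla⟩ := exists_ne_in_pencil (L := L) Z a
  have h := card_dvd_of_free (X := P) (persp Γ Z a) {p | p ∈ l ∧ p ≠ Z}
    (fun u hu p hp => ⟨(mem_of_fix (hu.2 l hl) p).2 hp.1, fun e => hp.2 (by
      have : u • p = u • Z := e.trans (centre_fixed hu.2).symm
      exact MulAction.injective u this)⟩)
    (fun u hu p hp hup => eq_one_of_fixed hu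
      (fun hpa => hp.2 (point_eq hla hp.1 hpa hl hZ)) hp.2 hup)
  have h2 : {p : P | p ∈ l ∧ p ≠ Z}.ncard = ProjectivePlane.order P L := by
    have h3 : {p : P | p ∈ l ∧ p ≠ Z} = {p : P | p ∈ l} \ {Z} := by ext; simp
    rw [h3, Set.ncard_diff_singleton_of_mem (show Z ∈ {p : P | p ∈ l} from hl), ncard_line l]
    rfl
  rwa [h2] at h

/-- The order of an elation group divides the order of the plane times that of a centre. -/
theorem card_elations_dvd {Z : P} {a : L} (hZ : Z ∈ a) :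
    Nat.card (elations Γ P a) ∣ Nat.card (persp Γ Z a) * ProjectivePlane.order P L := by
  classical
  let S : Set L := {l | Z ∈ l ∧ l ≠ a}
  let Y : SubMulAction (elations Γ P a) L := ⟨S, fun u l hl => ⟨by
      have h1 : (u : Γ) • Z = Z := u.2.1 Z hZ
      have h2 := (mem_smul (u : Γ) Z l).2 hl.1
      rwa [h1] at h2, fun e => hl.2 (by
        have h2 : (u : Γ) • a = a := axis_fixed u.2.1
        exact MulAction.injective (u : Γ) (e.trans h2.symm))⟩⟩
  haveI : Finite Y := Finite.of_injective (fun y : Y => (y : L)) Subtype.val_injective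
  have hstab : ∀ y : Y, stabilizer (elations Γ P a) y = (persp Γ Z a).subgroupOf (elations Γ P a) := by
    intro y
    ext u
    constructor
    · intro hu
      exact mem_persp_of_fixed_line u.2 hZ y.2.1 y.2.2 (congrArg (fun y : Y => (y : L)) hu)
    · intro hu
      exact Subtype.ext ((show (u : Γ) ∈ persp Γ Z a from hu).2 _ y.2.1)
  have hc := Nat.card_congr (selfEquivSigmaOrbitsQuotientStabilizer (elations Γ P a) Y)
  haveI := Fintype.ofFinite (orbitRel.Quotient (elations Γ P a) Y)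
  rw [Nat.card_sigma] at hc
  have hidx : ∀ y : Y, Nat.card (elations Γ P a ⧸ stabilizer (elations Γ P a) y) =
      ((persp Γ Z a).subgroupOf (elations Γ P a)).index := fun y => by
    rw [hstab]; rfl
  simp only [hidx, Finset.sum_const, smul_eq_mul] at hc
  have hY : Nat.card Y = ProjectivePlane.order P L := by
    show Nat.card S = _
    rw [Nat.card_coe_set_eq, show S = {l : L | Z ∈ l} \ {a} by ext; simp [S],
      Set.ncard_diff_singleton_of_mem (show a ∈ {l : L | Z ∈ l} from hZ), ncard_pencil Z]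
    rfl
  have hsub : Nat.card ((persp Γ Z a).subgroupOf (elations Γ P a)) = Nat.card (persp Γ Z a) :=
    Nat.card_congr (Subgroup.subgroupOfEquivOfLe (persp_le_elations hZ)).toEquiv
  rw [← ((persp Γ Z a).subgroupOf (elations Γ P a)).card_mul_index, hsub]
  refine Nat.mul_dvd_mul_left _ ?_
  rw [← hY, hc]
  exact Dvd.intro_left _ rfl

end CfsgLib.OW
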