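import Cfsg.Agent.OstromWagner.Persp
import Cfsg.Agent.ItoDesign.Axial
import Mathlib.Algebra.IsPrimePow
import Mathlib.GroupTheory.PGroup

/-!
# Common lemmas for groups with many involutory perspectivities
-/

set_option autoImplicit false

namespace CfsgLib.OW

open Configuration MulAction

/-- An involution of an invariant finite set fixes as many elements as the set has, modulo two. -/
theorem ncard_modEq_two {Γ X : Type*} [Group Γ] [MulAction Γ X] [Finite X] {g : Γ} (hg : g * g = 1)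
    (S : Set X) (hS : ∀ x, g • x ∈ S ↔ x ∈ S) :
    S.ncard ≡ {x | x ∈ S ∧ g • x = x}.ncard [MOD 2] := by
  haveI := Fact.mk Nat.prime_two
  exact CfsgLib.ItoDesign.Axial.ncard_modEq (by rw [pow_two]; exact hg) S hS

/-- Gleason: involutions fixing a single element each make a group transitive. -/
theorem gleason {Γ X : Type*} [Group Γ] [MulAction Γ X] [Finite X] (U : Subgroup Γ) (W : Set X)
    (hinv : ∀ x ∈ W, ∃ g ∈ U, g * g = 1 ∧ g • x = x ∧ ∀ y ∈ W, g • y = y → y = x)
    (hW : ∀ g ∈ U, ∀ x ∈ W, g • x ∈ W) {x y : X} (hx : x ∈ W) (hy : y ∈ W) :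
    ∃ g ∈ U, g • x = y := by
  by_contra hno
  push_neg at hno
  let O : Set X := {z | z ∈ W ∧ ∃ g ∈ U, g • x = z}
  have hOinv : ∀ g ∈ U, ∀ z, g • z ∈ O ↔ z ∈ O := by
    intro g hg z
    constructor
    · rintro ⟨hz, g', hg', e⟩
      refine ⟨?_, g⁻¹ * g', mul_mem (inv_mem hg) hg', by rw [mul_smul, e, inv_smul_smul]⟩
      have := hW g⁻¹ (inv_mem hg) _ hz
      rwa [inv_smul_smul] at this
    · rintro ⟨hz, g', hg', e⟩
      exact ⟨hW g hg z hz, g * g', mul_mem hg hg', by rw [mul_smul, e]⟩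
  obtain ⟨g, hgU, hg2, hgx, honly⟩ := hinv x hx
  obtain ⟨g', hg'U, hg'2, hg'y, honly'⟩ := hinv y hy
  have h1 := ncard_modEq_two hg2 O (hOinv g hgU)
  rw [show {z | z ∈ O ∧ g • z = z} = {x} by
    ext z
    exact ⟨fun hz => honly z hz.1.1 hz.2, fun hz => hz ▸ ⟨⟨hx, 1, one_mem _, one_smul _ _⟩, hgx⟩⟩,
    Set.ncard_singleton] at h1
  have h2 := ncard_modEq_two hg'2 O (hOinv g' hg'U)
  rw [show {z | z ∈ O ∧ g' • z = z} = ∅ by
    ext z
    refine ⟨fun hz => ?_, fun hz => hz.elim⟩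
    obtain ⟨⟨hzW, g'', hg'', e⟩, hfix⟩ := hz
    exact hno g'' hg'' (honly' z hzW hfix ▸ e), Set.ncard_empty] at h2
  exact absurd (h1.symm.trans h2) (by decide)

/-- Involutions fixing exactly two elements, one for each pair, make a group transitive. -/
theorem transitive_of_pairs {Γ X : Type*} [Group Γ] [MulAction Γ X] [Finite X] (U : Subgroup Γ)
    (W : Set X) (hW3 : 3 ≤ W.ncard)
    (hinv : ∀ x ∈ W, ∀ y ∈ W, x ≠ y →
      ∃ g ∈ U, g * g = 1 ∧ g • x = x ∧ g • y = y ∧ ∀ z ∈ W, g • z = z → z = x ∨ z = y)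
    (hW : ∀ g ∈ U, ∀ x ∈ W, g • x ∈ W) {x y : X} (hx : x ∈ W) (hy : y ∈ W) :
    ∃ g ∈ U, g • x = y := by
  by_contra hno
  push_neg at hno
  let O : X → Set X := fun w => {z | z ∈ W ∧ ∃ g ∈ U, g • w = z}
  have hOinv : ∀ w, ∀ g ∈ U, ∀ z, g • z ∈ O w ↔ z ∈ O w := by
    intro w g hg z
    constructor
    · rintro ⟨hz, g', hg', e⟩
      refine ⟨?_, g⁻¹ * g', mul_mem (inv_mem hg) hg', by rw [mul_smul, e, inv_smul_smul]⟩
      have := hW g⁻¹ (inv_mem hg) _ hz
      rwa [inv_smul_smul] at this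
    · rintro ⟨hz, g', hg', e⟩
      exact ⟨hW g hg z hz, g * g', mul_mem hg hg', by rw [mul_smul, e]⟩
  have hself : ∀ w ∈ W, w ∈ O w := fun w hw => ⟨hw, 1, one_mem _, one_smul _ _⟩
  have hdisj : ∀ u v, u ∈ W → (∀ g ∈ U, g • u ≠ v) → ∀ z, z ∈ O u → z ∈ O v → False := by
    rintro u v hu huv z ⟨-, g, hg, e⟩ ⟨-, g', hg', e'⟩
    exact huv (g'⁻¹ * g) (mul_mem (inv_mem hg') hg)
      (by rw [mul_smul, e, ← e', inv_smul_smul])
  have hsmall : ∀ u v, u ∈ W → v ∈ W → (∀ g ∈ U, g • u ≠ v) → ∀ z ∈ O u, z = u := by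
    intro u v hu hv huv z hz
    by_contra hne
    have huvne : u ≠ v := fun e => huv 1 (one_mem _) (by rw [one_smul, e])
    obtain ⟨g, hgU, hg2, hgu, hgv, honly⟩ := hinv u hu v hv huvne
    have h1 := ncard_modEq_two hg2 (O v) (hOinv v g hgU)
    rw [show {w | w ∈ O v ∧ g • w = w} = {v} by
      ext w
      refine ⟨fun hw => (honly w hw.1.1 hw.2).resolve_left ?_, fun hw => by
        rw [Set.mem_singleton_iff] at hw
        subst hw
        exact ⟨hself _ hv, hgv⟩⟩
      rintro rfl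
      exact hdisj w v hu huv w (hself w hu) hw.1, Set.ncard_singleton] at h1
    obtain ⟨g', hg'U, hg'2, hg'u, hg'z, honly'⟩ := hinv u hu z hz.1 (Ne.symm hne)
    have h2 := ncard_modEq_two hg'2 (O v) (hOinv v g' hg'U)
    rw [show {w | w ∈ O v ∧ g' • w = w} = ∅ by
      ext w
      refine ⟨fun hw => ?_, fun hw => hw.elim⟩
      rcases honly' w hw.1.1 hw.2 with rfl | rfl
      · exact hdisj w v hu huv w (hself w hu) hw.1
      · exact hdisj u v hu huv w hz hw.1, Set.ncard_empty] at h2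
    exact absurd (h1.symm.trans h2) (by decide)
  have hxy : ∀ g ∈ U, g • y ≠ x := fun g hg e =>
    hno g⁻¹ (inv_mem hg) (by rw [← e, inv_smul_smul])
  obtain ⟨z, hz, hzne⟩ := Set.exists_mem_notMem_of_ncard_lt_ncard (s := {x, y}) (t := W) (by
    have h2 : ({x, y} : Set X).ncard ≤ 2 := by
      refine (Set.ncard_insert_le _ _).trans ?_
      rw [Set.ncard_singleton]
    omega)
  simp only [Set.mem_insert_iff, Set.mem_singleton_iff, not_or] at hzne
  have hxyne : x ≠ y := fun e => hno 1 (one_mem _) (by rw [one_smul, e])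
  obtain ⟨g, hgU, -, hgx, hgy, honly⟩ := hinv x hx y hy hxyne
  by_cases hzx : ∀ g ∈ U, g • z ≠ x
  · have h1 := hsmall z x hz hx hzx (g • z) ⟨hW g hgU z hz, g, hgU, rfl⟩
    exact (honly z hz h1).elim hzne.1 hzne.2
  · push_neg at hzx
    obtain ⟨g', hg', e⟩ := hzx
    exact hzne.1 (hsmall x y hx hy hno z
      ⟨hz, g'⁻¹, inv_mem hg', by rw [← e, inv_smul_smul]⟩)

variable {Γ P L : Type*} [Membership P L] [ProjectivePlane P L] [Finite P] [Finite L] [Group Γ]
  [MulAction Γ P] [MulAction Γ L] [Compat Γ P L] [FaithfulSMul Γ P]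

/-- An involutory perspectivity is an elation exactly when the order is even. -/
theorem centre_mem_iff_even {g : Γ} (hg : g * g = 1) (h1 : g ≠ 1) {Z : P} {a : L}
    (h : g ∈ persp Γ Z a) : Z ∈ a ↔ Even (ProjectivePlane.order P L) := by
  have hmod := ncard_modEq_two hg (Set.univ : Set P) (fun x => iff_of_true trivial trivial)
  have hfix : {x : P | x ∈ (Set.univ : Set P) ∧ g • x = x} = {x : P | x ∈ a} ∪ {Z} := by
    ext x
    constructor
    · rintro ⟨-, hx⟩
      exact fixed_point h1 h.1 h.2 hx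
    · rintro (hx | rfl)
      · exact ⟨trivial, h.1 x hx⟩
      · exact ⟨trivial, centre_fixed h.2⟩
  rw [hfix, Set.ncard_univ, card_points_eq (L := L)] at hmod
  set n := ProjectivePlane.order P L with hn
  have heven : Even (n ^ 2 + n) := by
    rw [show n ^ 2 + n = n * (n + 1) by ring]
    exact Nat.even_mul_succ_self n
  obtain ⟨c, hc⟩ := heven
  rw [hc] at hmod
  by_cases hZ : Z ∈ a
  · have hu : {x : P | x ∈ a} ∪ {Z} = {x : P | x ∈ a} := by
      rw [Set.union_eq_left]
      rintro x rfl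
      exact hZ
    rw [hu, ncard_line a, ← hn] at hmod
    refine iff_of_true hZ (Nat.even_iff.2 ?_)
    have h2 : (c + c + 1) % 2 = (n + 1) % 2 := hmod
    omega
  · rw [Set.union_singleton, Set.ncard_insert_of_notMem (s := {x : P | x ∈ a}) hZ, ncard_line a, ← hn] at hmod
    refine iff_of_false hZ (fun he => ?_)
    have h2 : (c + c + 1) % 2 = (n + 1 + 1) % 2 := hmod
    have := Nat.even_iff.1 he
    omega

theorem persp_card_conj [Finite Γ] (g : Γ) (Z : P) (a : L) :
    Nat.card (persp Γ (g • Z) (g • a)) = Nat.card (persp Γ Z a) := by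
  have key : ∀ (g : Γ) (Z : P) (a : L),
      Nat.card (persp Γ Z a) ≤ Nat.card (persp Γ (g • Z) (g • a)) := fun g Z a =>
    Nat.card_le_card_of_injective
      (fun t : persp Γ Z a => (⟨g * t * g⁻¹, conj_persp g t.2⟩ : persp Γ (g • Z) (g • a)))
      fun s t h => Subtype.ext (mul_left_cancel (mul_right_cancel (congrArg Subtype.val h)))
  refine le_antisymm ?_ (key g Z a)
  have := key g⁻¹ (g • Z) (g • a)
  rwa [inv_smul_smul, inv_smul_smul] at this

variable [Finite Γ]

/-- The elations of an axis with two centres form a `p`-group. -/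
theorem exists_pow_card_elations {a : L} {Y Z : P} (hY : Y ∈ a) (hZ : Z ∈ a) (hYZ : Y ≠ Z)
    (hY1 : persp Γ Y a ≠ ⊥) (hZ1 : persp Γ Z a ≠ ⊥) :
    ∃ p : ℕ, p.Prime ∧ ∀ V : Subgroup Γ, V ≤ elations Γ P a → ∃ k, Nat.card V = p ^ k := by
  obtain ⟨⟨s, hs⟩, hs1⟩ := Subgroup.ne_bot_iff_exists_ne_one.1 hY1
  obtain ⟨⟨t, ht⟩, ht1⟩ := Subgroup.ne_bot_iff_exists_ne_one.1 hZ1
  obtain ⟨-, p, hp, hexp⟩ := elations_structure hY hZ hYZ hs ht
    (fun e => hs1 (Subtype.ext e)) (fun e => ht1 (Subtype.ext e))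
  haveI := Fact.mk hp
  refine ⟨p, hp, fun V hV => IsPGroup.iff_card.1 fun v => ⟨1, Subtype.ext ?_⟩⟩
  rw [pow_one, SubgroupClass.coe_pow]
  exact hexp _ (hV v.2)

/-- If the order is the order of a component of an elementary elation group, it is a prime power. -/
theorem isPrimePow_of_full {a : L} {Y Z : P} (hY : Y ∈ a) (hZ : Z ∈ a) (hYZ : Y ≠ Z)
    (hY1 : persp Γ Y a ≠ ⊥) (hZ1 : persp Γ Z a ≠ ⊥) (V : Subgroup Γ) (hV : V ≤ elations Γ P a)
    (hcard : Nat.card V = ProjectivePlane.order P L) : IsPrimePow (ProjectivePlane.order P L) := by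
  obtain ⟨p, hp, hpow⟩ := exists_pow_card_elations hY hZ hYZ hY1 hZ1
  obtain ⟨k, hk⟩ := hpow V hV
  rw [hcard] at hk
  refine ⟨p, k, hp.prime, Nat.pos_of_ne_zero ?_, hk.symm⟩
  rintro rfl
  have := ProjectivePlane.one_lt_order P L
  simp at hk
  omega

/-- A line all whose points are centres of equally many elations forces a prime power order. -/
theorem isPrimePow_of_equal {a : L} {h : ℕ} (hh : 2 ≤ h)
    (heq : ∀ Z : P, Z ∈ a → Nat.card (persp Γ Z a) = h) :
    IsPrimePow (ProjectivePlane.order P L) := by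
  classical
  haveI := Fintype.ofFinite P
  set n := ProjectivePlane.order P L with hn
  obtain ⟨Y, hY, -⟩ := exists_ne_on_line a
    (Classical.choose (Nondegenerate.exists_point (P := P) a))
  obtain ⟨Z, hZ, hZY⟩ := exists_ne_on_line a Y
  have hbot : ∀ W : P, W ∈ a → persp Γ W a ≠ ⊥ := fun W hW e => by
    have := heq W hW
    rw [e, Subgroup.card_bot] at this
    omega
  have hc := card_elations (Γ := Γ) a
  rw [Finset.sum_congr rfl fun W hW => by rw [heq W (Finset.mem_filter.1 hW).2], Finset.sum_const,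
    nsmul_eq_mul] at hc
  have hl : (Finset.univ.filter fun W : P => W ∈ a).card = n + 1 := by
    rw [hn, ← ncard_line (P := P) a, Set.ncard_eq_toFinset_card']
    congr 1; ext; simp
  rw [hl] at hc
  push_cast at hc
  obtain ⟨r, hr⟩ := heq Y hY ▸ card_persp_dvd_order (Γ := Γ) hY
  have h1 : Nat.card (elations Γ P a) ∣ h * n := heq Y hY ▸ card_elations_dvd (Γ := Γ) hY
  rw [← hn] at hr
  have hT : (Nat.card (elations Γ P a) : ℤ) = h * (r * ((h : ℤ) - 1) + 1) := by
    have : (n : ℤ) = h * r := by exact_mod_cast hr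
    rw [this] at hc
    linear_combination hc
  obtain ⟨q, hq⟩ := h1
  have hr1 : r = 1 := by
    have h2 : ((h * n : ℕ) : ℤ) = ((Nat.card (elations Γ P a) * q : ℕ) : ℤ) := by rw [hq]
    push_cast at h2
    rw [hT, hr] at h2
    push_cast at h2
    have h3 : (h : ℤ) * r = (r * ((h : ℤ) - 1) + 1) * q :=
      mul_left_cancel₀ (show (h : ℤ) ≠ 0 by omega) (by linear_combination h2)
    have hrpos : 1 ≤ r := by
      have := ProjectivePlane.one_lt_order P L
      rcases Nat.eq_zero_or_pos r with rfl | h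
      · simp at hr; omega
      · exact h
    have hr' : (1 : ℤ) ≤ r := by exact_mod_cast hrpos
    have hh' : (2 : ℤ) ≤ h := by exact_mod_cast hh
    rcases Nat.lt_or_ge q 2 with hq2 | hq2
    · interval_cases q
      · nlinarith
      · push_cast at h3
        have : (r : ℤ) = 1 := by linarith
        exact_mod_cast this
    · exfalso
      have hq' : (2 : ℤ) ≤ q := by exact_mod_cast hq2
      nlinarith
  subst hr1
  exact isPrimePow_of_full hY hZ hZY.symm (hbot Y hY) (hbot Z hZ) (persp Γ Y a)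
    (persp_le_elations hY) (by rw [heq Y hY, ← hn, hr, mul_one])

end CfsgLib.OW
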