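import Cfsg.Agent.OstromWagner.Col
import Mathlib.GroupTheory.Nilpotent

/-!
# A flag and antiflag transitive group of a plane of prime power order has perspectivities
-/

set_option autoImplicit false

namespace CfsgLib.OW

open Configuration MulAction

variable {Γ P L : Type*} [Membership P L] [ProjectivePlane P L] [Finite P] [Finite L] [Group Γ]
  [MulAction Γ P] [MulAction Γ L] [Compat Γ P L] [FaithfulSMul Γ P] [Finite Γ]

omit [FaithfulSMul Γ P] [ProjectivePlane P L] [Finite P] [Finite L] [Compat Γ P L] [Membership P L]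
  [MulAction Γ P] [MulAction Γ L] in
/-- A prime power dividing the group order is at most the order of a Sylow subgroup. -/
theorem le_card_sylow {p : ℕ} [Fact p.Prime] (S : Sylow p Γ) {x : ℕ} (k : ℕ) (hx : x = p ^ k)
    (hdvd : x ∣ Nat.card Γ) : x ≤ Nat.card S := by
  have h1 := Subgroup.card_mul_index (S : Subgroup Γ)
  have h2 : Nat.Coprime x (S : Subgroup Γ).index := by
    rw [hx]
    exact Nat.Coprime.pow_left _ ((Nat.Prime.coprime_iff_not_dvd Fact.out).2 S.not_dvd_index)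
  rw [← h1] at hdvd
  exact Nat.le_of_dvd Nat.card_pos (h2.dvd_of_dvd_mul_right hdvd)

omit [FaithfulSMul Γ P] in
/-- A Sylow subgroup fixing a line is transitive off it, with point stabilisers of index `n ^ 2`. -/
theorem affine_transitive (hflag : ∀ (x x' : P) (C C' : L), x ∉ C → x' ∉ C' →
      ∃ g : Γ, g • x = x' ∧ g • C = C')
    {p a : ℕ} [Fact p.Prime] (hn : ProjectivePlane.order P L = p ^ a) (S : Sylow p Γ) {l : L}
    (hl : ∀ s ∈ (S : Subgroup Γ), s • l = l) {O : P} (hO : O ∉ l) :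
    (stabilizer (S : Subgroup Γ) O).index = ProjectivePlane.order P L ^ 2 ∧
      ∀ O' : P, O' ∉ l → ∃ s ∈ (S : Subgroup Γ), s • O = O' := by
  set n := ProjectivePlane.order P L with hn'
  let A : Set P := {x | x ∉ l}
  have hA : A.ncard = n ^ 2 := by
    have h1 := Set.ncard_add_ncard_compl {x : P | x ∈ l}
    rw [ncard_line l, card_points_eq (L := L), ← hn'] at h1
    have : A = {x : P | x ∈ l}ᶜ := rfl
    rw [this]
    omega
  have horb : orbit (stabilizer Γ l) O = A := by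
    ext x
    constructor
    · rintro ⟨⟨g, hg⟩, rfl⟩
      exact fun h => hO ((mem_of_fix hg O).1 h)
    · intro hx
      obtain ⟨g, hgO, hgl⟩ := hflag O x l l hO hx
      exact ⟨⟨g, hgl⟩, hgO⟩
  have hsub : orbit (S : Subgroup Γ) O ⊆ A := by
    rintro x ⟨⟨s, hs⟩, rfl⟩
    exact fun h => hO ((mem_of_fix (hl s hs) O).1 h)
  have hGl : Nat.card (stabilizer (stabilizer Γ l) O) * n ^ 2 = Nat.card (stabilizer Γ l) := by
    rw [← hA, ← horb, ← index_stabilizer, Subgroup.card_mul_index]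
  let f : stabilizer (S : Subgroup Γ) O →* stabilizer (stabilizer Γ l) O :=
    { toFun := fun s => ⟨⟨((s : (S : Subgroup Γ)) : Γ), hl _ (s : (S : Subgroup Γ)).2⟩, s.2⟩
      map_one' := rfl
      map_mul' := fun _ _ => rfl }
  have hf : Function.Injective f := fun s t h =>
    Subtype.ext (Subtype.ext (congrArg (fun u : stabilizer (stabilizer Γ l) O =>
      ((u : stabilizer Γ l) : Γ)) h))
  have hdvd : Nat.card (stabilizer (S : Subgroup Γ) O) * n ^ 2 ∣ Nat.card Γ := by
    refine (Nat.mul_dvd_mul_right (Subgroup.card_dvd_of_injective f hf) _).trans ?_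
    rw [hGl]
    exact Subgroup.card_subgroup_dvd_card _
  obtain ⟨j, hj⟩ := IsPGroup.iff_card.1 (S.2.to_subgroup (stabilizer (S : Subgroup Γ) O))
  have hle := le_card_sylow S (j + a * 2) (by rw [hj, hn, ← pow_mul, ← pow_add]) hdvd
  have hidx : (stabilizer (S : Subgroup Γ) O).index = (orbit (S : Subgroup Γ) O).ncard :=
    index_stabilizer _ _
  have h1 := Subgroup.card_mul_index (stabilizer (S : Subgroup Γ) O)
  rw [hidx] at h1
  have hge : n ^ 2 ≤ (orbit (S : Subgroup Γ) O).ncard :=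
    Nat.le_of_mul_le_mul_left (h1.symm ▸ hle) Nat.card_pos
  have heq := Set.eq_of_subset_of_ncard_le hsub (hA ▸ hge)
  refine ⟨by rw [hidx, heq, hA], fun O' hO' => ?_⟩
  obtain ⟨⟨s, hs⟩, hsO⟩ := heq.ge hO'
  exact ⟨s, hs, hsO⟩

/-- The fixed lines of a group commuting with an element of unique fixed point pass through it. -/
theorem fixed_line_through {U : Subgroup Γ} {z : Γ} (hcomm : ∀ u ∈ U, u * z = z * u)
    (hq : ¬ HasQuad L (fixedPoints U P)) {Q B : P} {l : L} (hQl : Q ∈ l) (hBl : B ∈ l) (hBQ : B ≠ Q)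
    (hzl : z • l = l) (hzQ : z • Q = Q) (hfix : ∀ x : P, z • x = x → x = Q)
    (hQ : Q ∈ fixedPoints U P) (hB : B ∈ fixedPoints U P) {m : L} (hm : m ∈ fixedPoints U L) :
    Q ∈ m := by
  by_contra hQm
  have hzfix : ∀ x, x ∈ fixedPoints U P → z • x ∈ fixedPoints U P := by
    rintro x hx ⟨u, hu⟩
    change u • z • x = z • x
    rw [← mul_smul, hcomm u hu, mul_smul, show u • x = x from hx ⟨u, hu⟩]
  have hzm : z • m ∈ fixedPoints U L := by
    rintro ⟨u, hu⟩
    change u • z • m = z • m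
    rw [← mul_smul, hcomm u hu, mul_smul, show u • m = m from hm ⟨u, hu⟩]
  have hml : m ≠ l := fun e => hQm (e ▸ hQl)
  obtain ⟨M, hMm, hMl⟩ := exists_meet (P := P) m l hml
  have hMQ : M ≠ Q := fun e => hQm (e ▸ hMm)
  have hzmne : z • m ≠ m := fun e => hMQ (hfix M (smul_point_eq hml hMm hMl e hzl))
  obtain ⟨X, hXz, hXm⟩ := exists_meet (P := P) (z • m) m hzmne
  have hXfix : X ∈ fixedPoints U P := fun u =>
    smul_point_eq (g := (u : Γ)) hzmne hXz hXm (hzm u) (hm u)
  have hXl : X ∉ l := by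
    intro h
    obtain rfl : X = M := point_eq hml hXm h hMm hMl
    have h2 := (mem_smul' z X m).1 hXz
    have h3 : z⁻¹ • X ∈ l := (mem_of_fix (inv_smul_eq_iff.2 hzl.symm) X).2 h
    have h4 : z⁻¹ • X = X := point_eq hml h2 h3 hMm hMl
    exact hMQ (hfix X (inv_smul_eq_iff.1 h4).symm)
  have hzBQ : z • B ≠ Q := fun e => hBQ (MulAction.injective z (e.trans hzQ.symm))
  have hzBB : z • B ≠ B := fun e => hBQ (hfix B e)
  refine hXl ?_
  have h5 := subsingleton_off_line hq hQ hB (hzfix B hB) hQl hBl ((mem_of_fix hzl B).2 hBl)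
    hBQ.symm hzBQ.symm hzBB.symm hXfix (hzfix X hXfix) hXl (fun h => hXl ((mem_of_fix hzl X).1 h))
  rw [hfix X h5.symm]
  exact hQl

/-- A flag and antiflag transitive group of a plane of prime power order contains a perspectivity. -/
theorem exists_axis_of_isPrimePow
    (hflag : ∀ (x : P) (C : L) (x' : P) (C' : L), (x ∈ C ↔ x' ∈ C') →
      ∃ g : Γ, g • x = x' ∧ g • C = C')
    (hn : IsPrimePow (ProjectivePlane.order P L)) :
    ∃ g : Γ, g ≠ 1 ∧ ∃ a : L, IsAxis (P := P) g a := by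
  classical
  by_contra hno
  push_neg at hno
  set n := ProjectivePlane.order P L with hn'
  obtain ⟨p, a, hp, ha, hpa⟩ := hn
  rw [← Nat.prime_iff] at hp
  haveI := Fact.mk hp
  have hpn : p ∣ n := hpa ▸ dvd_pow_self p ha.ne'
  have h1n : 1 < n := ProjectivePlane.one_lt_order P L
  -- a Sylow subgroup fixing a flag
  obtain ⟨S⟩ : Nonempty (Sylow p Γ) := inferInstance
  obtain ⟨Q, hQ⟩ := S.2.nonempty_fixed_point_of_prime_not_dvd_card P (by
    rw [card_points_eq (L := L), ← hn']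
    intro h
    refine hp.not_dvd_one ?_
    have h2 : p ∣ n ^ 2 + n := dvd_add (dvd_pow hpn two_ne_zero) hpn
    exact (Nat.dvd_add_right h2).1 h)
  let Y : SubMulAction (S : Subgroup Γ) L := ⟨{m : L | Q ∈ m}, fun s m hm => by
    have h := (mem_smul (s : Γ) Q m).2 hm
    rwa [show (s : Γ) • Q = Q from hQ s] at h⟩
  obtain ⟨⟨l, hQl⟩, hl'⟩ := S.2.nonempty_fixed_point_of_prime_not_dvd_card Y (by
    rw [show Nat.card Y = Nat.card {m : L | Q ∈ m} from rfl, Nat.card_coe_set_eq, ncard_pencil Q,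
      ← hn']
    exact fun h => hp.not_dvd_one ((Nat.dvd_add_right hpn).1 h))
  change Q ∈ l at hQl
  have hl : ∀ s ∈ (S : Subgroup Γ), s • l = l := fun s hs =>
    congrArg (fun y : Y => (y : L)) (hl' ⟨s, hs⟩)
  have hanti : ∀ (x x' : P) (C C' : L), x ∉ C → x' ∉ C' → ∃ g : Γ, g • x = x' ∧ g • C = C' :=
    fun x x' C C' h h' => hflag x C x' C' (iff_of_false h h')
  have haff : ∀ {O : P}, O ∉ l → _ := fun {O} hO => affine_transitive hanti hpa.symm S hl hO
  -- transitivity on the other points of the line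
  have htran : ∀ B B' : P, B ∈ l → B ≠ Q → B' ∈ l → B' ≠ Q →
      ∃ s ∈ (S : Subgroup Γ), s • B = B' := by
    intro B B' hB hBQ hB' hB'Q
    obtain ⟨m, hBm, hml⟩ := exists_ne_in_pencil (L := L) B l
    obtain ⟨m', hBm', hml'⟩ := exists_ne_in_pencil (L := L) B' l
    have hQm : Q ∉ m := fun h => hml (line_eq hBQ hBm h hB hQl)
    have hQm' : Q ∉ m' := fun h => hml' (line_eq hB'Q hBm' h hB' hQl)
    obtain ⟨s, hs, hsm⟩ := (affine_transitive (Γ := Γ) (P := Configuration.Dual L)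
      (L := Configuration.Dual P)
      (fun C C' x x' h h' => let ⟨g, h1, h2⟩ := hanti x x' C C' h h'; ⟨g, h2, h1⟩)
      (show ProjectivePlane.order (Configuration.Dual L) (Configuration.Dual P) = p ^ a by
        rw [ProjectivePlane.Dual.order]; exact hpa.symm)
      S (l := Q) (fun s hs => hQ ⟨s, hs⟩) (O := m) hQm).2 m' hQm'
    change s • m = m' at hsm
    refine ⟨s, hs, point_eq hml' ?_ ((mem_of_fix (hl s hs) B).2 hB) hBm' hB'⟩
    rw [← hsm]
    exact (mem_smul s B m).2 hBm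
  obtain ⟨O₀, hO₀⟩ := Nondegenerate.exists_point (P := P) l
  obtain ⟨B, hBl, hBQ⟩ := exists_ne_on_line l Q
  haveI : Nontrivial (S : Subgroup Γ) := by
    rw [← Finite.one_lt_card_iff_nontrivial]
    have h1 := Subgroup.card_mul_index (stabilizer (S : Subgroup Γ) O₀)
    rw [(haff hO₀).1, ← hn'] at h1
    have h2 : 0 < Nat.card (stabilizer (S : Subgroup Γ) O₀) := Nat.card_pos
    have h3 : 4 ≤ n ^ 2 := by nlinarith
    nlinarith
  haveI := S.2.center_nontrivial
  obtain ⟨⟨⟨z, hzS⟩, hzc⟩, hz1⟩ := exists_ne (1 : Subgroup.center (S : Subgroup Γ))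
  have hz1' : z ≠ 1 := fun e => hz1 (Subtype.ext (Subtype.ext e))
  have hcomm : ∀ s ∈ (S : Subgroup Γ), s * z = z * s := fun s hs =>
    congrArg Subtype.val (Subgroup.mem_center_iff.1 hzc ⟨s, hs⟩)
  have hzfix : ∀ x, z • x = x → x = Q := by
    intro x hx
    by_contra hxQ
    by_cases hxl : x ∈ l
    · refine hno z hz1' l fun y hy => ?_
      rcases eq_or_ne y Q with rfl | hyQ
      · exact hQ ⟨z, hzS⟩
      obtain ⟨s, hs, rfl⟩ := htran x y hxl hxQ hy hyQ
      rw [← mul_smul, ← hcomm s hs, mul_smul, hx]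
    · refine hz1' (eq_of_smul_eq_smul (α := P) fun y => ?_)
      rw [one_smul]
      have hoff : ∀ w, w ∉ l → z • w = w := by
        intro w hw
        obtain ⟨s, hs, rfl⟩ := (haff hxl).2 w hw
        rw [← mul_smul, ← hcomm s hs, mul_smul, hx]
      by_cases hy : y ∈ l
      swap
      · exact hoff y hy
      have hlines : ∀ m : L, y ∈ m → m ≠ l → z • m = m := by
        intro m hm hml
        obtain ⟨u, hu, huy⟩ := exists_ne_on_line m y
        obtain ⟨v, hv, hvy, hvu⟩ : ∃ v : P, v ∈ m ∧ v ≠ y ∧ v ≠ u := by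
          by_contra hne
          push_neg at hne
          have hsub : {x : P | x ∈ m} ⊆ {y, u} := fun x hx => by
            by_cases hxA : x = y
            · exact Or.inl hxA
            · exact Or.inr (hne x hx hxA)
          have := Set.ncard_le_ncard hsub
          rw [ncard_line m, ← hn'] at this
          have h2 : ({y, u} : Set P).ncard ≤ 2 := by
            refine (Set.ncard_insert_le _ _).trans ?_
            rw [Set.ncard_singleton]
          omega
        exact smul_line_eq hvu hv hu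
          (hoff v fun h => hvy (point_eq hml hv h hm hy))
          (hoff u fun h => huy (point_eq hml hu h hm hy))
      obtain ⟨m, hm, hml⟩ := exists_ne_in_pencil (L := L) y l
      obtain ⟨m', hm', hm'l, hm'm⟩ := exists_third_line y l m
      exact smul_point_eq hm'm hm' hm (hlines m' hm' hm'l) (hlines m hm hml)
  -- the stabiliser of `B` fixes no quadrangle
  set Sb : Subgroup Γ := (S : Subgroup Γ) ⊓ stabilizer Γ B with hSb
  have hSbfix : ∀ O, O ∈ fixedPoints Sb P → O ∈ l := by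
    intro O hO
    by_contra hOl
    have hle : stabilizer (S : Subgroup Γ) B ≤ stabilizer (S : Subgroup Γ) O :=
      fun s hs => hO ⟨(s : Γ), s.2, hs⟩
    have h1 := Subgroup.index_dvd_of_le hle
    have horb : orbit (S : Subgroup Γ) B = {x : P | x ∈ l} \ {Q} := by
      ext x
      constructor
      · rintro ⟨⟨s, hs⟩, rfl⟩
        exact ⟨(mem_of_fix (hl s hs) B).2 hBl,
          fun e => hBQ (MulAction.injective s (e.trans (hQ ⟨s, hs⟩).symm))⟩
      · rintro ⟨hxl, hxQ⟩
        obtain ⟨s, hs, hsB⟩ := htran B x hBl hBQ hxl hxQ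
        exact ⟨⟨s, hs⟩, hsB⟩
    rw [(haff hOl).1, index_stabilizer, horb,
      Set.ncard_diff_singleton_of_mem (show Q ∈ {x : P | x ∈ l} from hQl), ncard_line l,
      Nat.add_sub_cancel, ← hn'] at h1
    have h2 := Nat.le_of_dvd (by omega) h1
    nlinarith
  have hSbq : ¬ HasQuad L (fixedPoints Sb P) := by
    rintro ⟨A₁, h1, A₂, h2, A₃, h3, -, -, -, -, -, -, -, -, hcol, -⟩
    exact hcol l ⟨hSbfix _ h1, hSbfix _ h2, hSbfix _ h3⟩
  -- a maximal subgroup with a fixed quadrangle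
  haveI := Fintype.ofFinite (Subgroup Γ)
  obtain ⟨R, hRmem, hRmax⟩ := Finset.exists_max_image
    (Finset.univ.filter fun R : Subgroup Γ => R ≤ Sb ∧ HasQuad L (fixedPoints R P))
    (fun R => Nat.card R) ⟨⊥, by simp [hasQuad_bot]⟩
  simp only [Finset.mem_filter, Finset.mem_univ, true_and] at hRmem hRmax
  obtain ⟨hRS, hRq⟩ := hRmem
  obtain ⟨w, hwS, hwN, hwR⟩ : ∃ w, w ∈ Sb ∧ w ∈ Subgroup.normalizer (R : Set Γ) ∧ w ∉ R := by
    haveI := (S.2.to_le (inf_le_left : Sb ≤ (S : Subgroup Γ))).isNilpotent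
    have hlt : R.subgroupOf Sb < ⊤ := by
      rw [lt_top_iff_ne_top, Ne, Subgroup.subgroupOf_eq_top]
      exact fun h => hSbq (le_antisymm hRS h ▸ hRq)
    obtain ⟨w, hwN, hwR⟩ :=
      SetLike.exists_of_lt (Group.normalizerCondition_of_isNilpotent _ hlt)
    refine ⟨w, w.2, Subgroup.mem_normalizer_iff.2 fun h => ⟨fun hh => ?_, fun hh => ?_⟩, hwR⟩
    · exact (Subgroup.mem_normalizer_iff.1 hwN ⟨h, hRS hh⟩).1 hh
    · have hmem : h ∈ Sb := by
        have h5 := mul_mem (mul_mem (inv_mem w.2) (hRS hh)) w.2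
        simpa [mul_assoc] using h5
      exact (Subgroup.mem_normalizer_iff.1 hwN ⟨h, hmem⟩).2 hh
  set U : Subgroup Γ := R ⊔ Subgroup.zpowers w with hU
  have hUle : U ≤ Sb := sup_le hRS ((Subgroup.zpowers_le).2 hwS)
  have hUq : ¬ HasQuad L (fixedPoints U P) := by
    intro h
    have h1 := hRmax U ⟨hUle, h⟩
    have h2 : U = R := (Subgroup.eq_of_le_of_card_ge le_sup_left h1).symm
    exact hwR (h2 ▸ (le_sup_right : Subgroup.zpowers w ≤ U) (Subgroup.mem_zpowers w))
  have hQU : Q ∈ fixedPoints U P := fun u => hQ ⟨u, (hUle u.2).1⟩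
  have hBU : B ∈ fixedPoints U P := fun u => (hUle u.2).2
  have hlU : l ∈ fixedPoints U L := fun u => hl u (hUle u.2).1
  obtain ⟨m, hm, hml⟩ : ∃ m : L, m ∈ fixedPoints U L ∧ m ≠ l := by
    letI := subPlane R hRq
    have hQR : Q ∈ fixedPoints R P := fun u => hQ ⟨u, (hRS u.2).1⟩
    have hBR : B ∈ fixedPoints R P := fun u => (hRS u.2).2
    have hlR : l ∈ fixedPoints R L := fun u => hl u (hRS u.2).1
    let g : Subgroup.normalizer (R : Set Γ) := ⟨w, hwN⟩
    have h2 : 1 < (fixedBy (fixedPoints R P) g).ncard :=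
      (Set.one_lt_ncard (Set.toFinite _)).2 ⟨⟨Q, hQR⟩, Subtype.ext (hQ ⟨w, hwS.1⟩), ⟨B, hBR⟩,
        Subtype.ext hwS.2, fun e => hBQ (congrArg Subtype.val e).symm⟩
    rw [ncard_fixed_eq (L := fixedPoints R L) g] at h2
    obtain ⟨m, hm, hne⟩ := Set.exists_ne_of_one_lt_ncard h2 ⟨l, hlR⟩
    refine ⟨(m : L), fun u => ?_, fun e => hne (Subtype.ext e)⟩
    have hle : U ≤ stabilizer Γ (m : L) :=
      sup_le (fun r hr => m.2 ⟨r, hr⟩) ((Subgroup.zpowers_le).2 (congrArg Subtype.val hm))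
    exact hle u.2
  have hQm := fixed_line_through (fun u hu => hcomm u (hUle hu).1) hUq hQl hBl hBQ (hl z hzS)
    (hQ ⟨z, hzS⟩) hzfix hQU hBU hm
  -- the same from a Sylow subgroup at the flag `(B, l)`
  obtain ⟨g, hgQ, hgl⟩ := hflag Q l B l (iff_of_true hQl hBl)
  let H : Subgroup Γ := stabilizer Γ B ⊓ stabilizer Γ l
  have hmemg : ∀ x, x ∈ ((g • S : Sylow p Γ) : Subgroup Γ) ↔ g⁻¹ * x * g ∈ (S : Subgroup Γ) := by
    intro x
    rw [Sylow.coe_subgroup_smul, Subgroup.mem_pointwise_smul_iff_inv_smul_mem]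
    simp [MulAut.smul_def, mul_assoc]
  have hgS : ((g • S : Sylow p Γ) : Subgroup Γ) ≤ H := by
    intro x hx
    rw [hmemg] at hx
    constructor
    · have h := hQ ⟨_, hx⟩
      change (g⁻¹ * x * g) • Q = Q at h
      rw [mul_smul, mul_smul, hgQ, inv_smul_eq_iff, hgQ] at h
      exact h
    · have h := hl _ hx
      rw [mul_smul, mul_smul, hgl, inv_smul_eq_iff, hgl] at h
      exact h
  have hUH : U ≤ H := fun u hu => ⟨hBU ⟨u, hu⟩, hlU ⟨u, hu⟩⟩
  have hUp : IsPGroup p (U.subgroupOf H) :=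
    (S.2.to_le (hUle.trans inf_le_left)).comap_subtype
  obtain ⟨T, hT⟩ := hUp.exists_le_sylow
  obtain ⟨h, hh⟩ := MulAction.exists_smul_eq H ((g • S).subtype hgS) T
  set k : Γ := (h : Γ) * g with hk
  have hkQ : k • Q = B := by rw [hk, mul_smul, hgQ]; exact h.2.1
  have hkl : k • l = l := by rw [hk, mul_smul, hgl]; exact h.2.2
  have hconj : ∀ u ∈ U, k⁻¹ * u * k ∈ (S : Subgroup Γ) := by
    intro u hu
    have h1 : (⟨u, hUH hu⟩ : H) ∈ (T : Subgroup H) := hT hu
    rw [← hh, Sylow.coe_subgroup_smul, Subgroup.mem_pointwise_smul_iff_inv_smul_mem] at h1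
    simp [MulAut.smul_def, Subgroup.mem_subgroupOf] at h1
    rw [hmemg] at h1
    rw [hk, mul_inv_rev]
    simpa [mul_assoc] using h1
  have hcomm' : ∀ u ∈ U, u * (k * z * k⁻¹) = (k * z * k⁻¹) * u := by
    intro u hu
    have h1 := congrArg (fun x => k * x * k⁻¹) (hcomm _ (hconj u hu))
    simpa [mul_assoc] using h1
  have hzfix' : ∀ x, (k * z * k⁻¹) • x = x → x = B := by
    intro x hx
    rw [mul_smul, mul_smul, ← eq_inv_smul_iff] at hx
    rw [← hkQ, ← hzfix _ hx, smul_inv_smul]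
  have hBm := fixed_line_through hcomm' hUq hBl hQl hBQ.symm
    (by rw [mul_smul, mul_smul, inv_smul_eq_iff.2 hkl.symm, hl z hzS, hkl])
    (by rw [mul_smul, mul_smul, inv_smul_eq_iff.2 hkQ.symm, show z • Q = Q from hQ ⟨z, hzS⟩, hkQ])
    hzfix' hBU hQU hm
  exact hml (line_eq hBQ hBm hQm hBl hQl)

end CfsgLib.OW
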